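import Groth.Agent.H3CAlg.GlobAlg.Telescope
import Groth.Agent.H3CAlg.CechLimit
import Groth.Agent.H3CAlg.Sect0.Level1

/-!
# Čech cohomology and formal cohomology under a Mittag-Leffler hypothesis
-/

set_option autoImplicit false
set_option linter.style.haveILetI false
set_option linter.unusedSectionVars false

universe u

open CategoryTheory CategoryTheory.Limits
open Groth.Agent.H4DR
open Groth.Agent.H3CAlg.PunctCech (Hc hc hv Hv U₀ η₀ τ ψ hv_η₀ ψ_natural τ_natural)
open Groth.Agent.H3CAlg.Boot (qt qt_mkQ qt_qt)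
open Groth.Agent.H3CAlg.Sect0 (qle qle_π qle_qle qle_self qle_trans' compat)

attribute [local instance] HasDerivedCategory.standard

namespace Groth.Agent.H3CAlg.GlobAlg

variable {A : Type u} [CommRing A] [IsNoetherianRing A] (fs : List A) (I : Ideal A)
  (M : Type u) [AddCommGroup M] [Module A M] [Module.Finite A M]

/-- The tower `H^j(M/I^nM)` is Mittag-Leffler. -/
def HcML (j : ℤ) : Prop :=
  ∀ n : ℕ, ∃ (l : ℕ) (hl : n ≤ l), ∀ (k : ℕ) (hk : l ≤ k),
    Set.range (hc fs (qt I M (hl.trans hk)) j) = Set.range (hc fs (qt I M hl) j)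

/-- `H^j(M)` is the limit of the `H^j(M/I^{n+1}M)`. -/
def HcLim (j : ℤ) : Prop :=
  (∀ x : Hc fs j M, (∀ n : ℕ, hc fs (Formal2.quotPowπ A I M n) j x = 0) → x = 0) ∧
    ∀ y : ∀ n, Hc fs j (Formal2.quotPow A I M n),
      (∀ n, hc fs (Formal2.quotPowTrans A I M n) j (y (n + 1)) = y n) →
        ∃ x, ∀ n, hc fs (Formal2.quotPowπ A I M n) j x = y n

theorem hc_qt_self (j : ℤ) (n : ℕ) (x : Hc fs j (M ⧸ (I ^ n • ⊤ : Submodule A M))) :
    hc fs (qt I M (le_refl n)) j x = x :=
  (congrArg (fun t => hc fs t j x) (Boot.qt_eq_id (I := I) (M := M) n)).trans (PunctCech.hc_id fs j x)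

theorem tq_hom (n : ℕ) : (RG.tq I (ModuleCat.of A M) n).hom = qt I M n.le_succ :=
  Submodule.linearMap_qext _ (LinearMap.ext fun _ => rfl)

/-- The limit property from the completed Čech complex. -/
theorem hcLim_of_ml (j : ℤ) (hη : Function.Bijective (HomologicalComplex.homologyMap (DComplete.ηC I (PunctCech.C fs M)) j).hom)
    (hml : HcML fs I M (j - 1)) : HcLim fs I M j := by
  let M' : ModuleCat.{u} A := ModuleCat.of A M
  have hS := RG.sesC_shortExact I M' fs
  have hp : ∀ (j : ℤ) (x : (RG.piFam (RG.tow I M' fs)).homology j) (n : ℕ),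
      RG.piFamH _ j ((HomologicalComplex.homologyMap (RG.βC I M' fs) j).hom x) n =
        RG.piFamH _ j x n - hc fs (RG.tq I M' n).hom j (RG.piFamH _ j x (n + 1)) := by
    intro j x n
    show (HomologicalComplex.homologyMap (RG.βC I M' fs) j ≫ HomologicalComplex.homologyMap (RG.piπ _ n) j).hom x = _
    rw [← HomologicalComplex.homologyMap_comp, RG.piL_piπ, HomologicalComplex.homologyMap_sub,
      HomologicalComplex.homologyMap_comp]
    rfl
  have hproj : ∀ (x : Hc fs j M) (n : ℕ),
      RG.piFamH _ j ((HomologicalComplex.homologyMap (RG.αC I M' fs) j).hom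
        ((HomologicalComplex.homologyMap (DComplete.ηC I (PunctCech.C fs M)) j).hom x)) n = hc fs (I ^ n • ⊤ : Submodule A M).mkQ j x := by
    intro x n
    show (HomologicalComplex.homologyMap (DComplete.ηC I (PunctCech.C fs M)) j ≫ HomologicalComplex.homologyMap (RG.αC I M' fs) j ≫
      HomologicalComplex.homologyMap (RG.piπ _ n) j).hom x = _
    rw [← HomologicalComplex.homologyMap_comp, ← HomologicalComplex.homologyMap_comp, RG.piL_piπ, RG.ηC_evC]
  have hβ : Function.Surjective (HomologicalComplex.homologyMap (RG.βC I M' fs) (j - 1)).hom := by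
    intro w
    obtain ⟨k, hk⟩ := exists_telescope_ml (K := fun n => Hc fs (j - 1) (M ⧸ (I ^ n • ⊤ : Submodule A M)))
      (fun {n m} h => (hc fs (qt I M h) (j - 1)).toAddMonoidHom) (fun n x => hc_qt_self fs I M _ n x)
      (fun {a b c} h h' x => (PunctCech.hc_comp fs _ _ _ x).trans
        (congrArg (fun t => hc fs t (j - 1) x) (qt_qt I M h h')))
      hml (RG.piFamH (RG.tow I M' fs) (j - 1) w)
    obtain ⟨v, hv⟩ := (RG.bijective_piFamH (RG.tow I M' fs) (j - 1)).2 k
    refine ⟨v, (RG.bijective_piFamH (RG.tow I M' fs) (j - 1)).1 (funext fun n => ?_)⟩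
    rw [hp, hv, tq_hom]
    exact hk n
  have hαβ : Function.Exact (HomologicalComplex.homologyMap (RG.αC I M' fs) j).hom
      (HomologicalComplex.homologyMap (RG.βC I M' fs) j).hom :=
    (ShortComplex.ShortExact.moduleCat_exact_iff_function_exact _).1 (hS.homology_exact₂ j)
  have hα : Function.Injective (HomologicalComplex.homologyMap (RG.αC I M' fs) j).hom := by
    refine (injective_iff_map_eq_zero _).2 fun a ha => ?_
    obtain ⟨w, rfl⟩ := (((ShortComplex.ShortExact.moduleCat_exact_iff_function_exact _).1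
      (hS.homology_exact₁ (j - 1) j (by simp))) a).1 ha
    obtain ⟨v, rfl⟩ := hβ w
    exact (((ShortComplex.ShortExact.moduleCat_exact_iff_function_exact _).1
      (hS.homology_exact₃ (j - 1) j (by simp)))).apply_apply_eq_zero v
  refine ⟨fun x hx => hη.1 (hα ((RG.bijective_piFamH (RG.tow I M' fs) j).1 (funext fun n => ?_))), fun y hy => ?_⟩
  · rw [hproj, map_zero, map_zero, map_zero]
    cases n with
    | zero =>
      rw [← qt_mkQ I M (Nat.zero_le 1), ← PunctCech.hc_comp]
      exact (congrArg (hc fs _ j) (hx 0)).trans (map_zero _)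
    | succ n => exact hx n
  · let y' : ∀ n, Hc fs j (M ⧸ (I ^ n • ⊤ : Submodule A M)) := fun n =>
      Nat.casesOn (motive := fun n => Hc fs j (M ⧸ (I ^ n • ⊤ : Submodule A M))) n
        (hc fs (qt I M (Nat.zero_le 1)) j (y 0)) y
    have hy' : ∀ n, hc fs (RG.tq I M' n).hom j (y' (n + 1)) = y' n := fun n => by
      rw [tq_hom]
      cases n with
      | zero => rfl
      | succ n => exact (congrArg (fun t => hc fs t j (y (n + 1))) (Boot.quotPowTrans_eq (I := I) (M := M) n).symm).trans (hy n)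
    obtain ⟨w, hw⟩ := (RG.bijective_piFamH (RG.tow I M' fs) j).2 y'
    obtain ⟨a, ha⟩ := (hαβ w).1 ((RG.bijective_piFamH (RG.tow I M' fs) j).1 (funext fun n => by
      rw [hp, hw, map_zero]
      exact sub_eq_zero.2 (hy' n).symm))
    obtain ⟨x, rfl⟩ := hη.2 a
    exact ⟨x, fun n => (hproj x (n + 1)).symm.trans (by rw [ha, hw])⟩

/-- Positive degrees. -/
theorem formal_succ (i : ℕ) (h : HcLim fs I M ((i : ℤ) + 2)) :
    Formal2.FormalCohBijective A I M (i + 1) (U₀ fs) := by
  obtain ⟨e, he⟩ := PunctCech.exists_compare fs i ((i : ℤ) + 2) rfl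
  refine ⟨fun x x' hx => sub_eq_zero.1 ((map_eq_zero_iff (e (ModuleCat.of A M)) (e _).injective).1 (h.1 _ fun n => ?_)),
    fun y hy => ?_⟩
  · refine (he (M := ModuleCat.of A M) (N := ModuleCat.of A (Formal2.quotPow A I M n)) (Formal2.quotPowπ A I M n) (x - x')).symm.trans ?_
    exact (congrArg (e (ModuleCat.of A (Formal2.quotPow A I M n))) ((map_sub _ x x').trans (sub_eq_zero.2 (hx n)))).trans (map_zero _)
  · obtain ⟨z, hz⟩ := h.2 (fun n => e (ModuleCat.of A (Formal2.quotPow A I M n)) (y n)) fun n => by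
      refine (he (M := ModuleCat.of A (Formal2.quotPow A I M (n + 1))) (N := ModuleCat.of A (Formal2.quotPow A I M n))
        (Formal2.quotPowTrans A I M n) (y (n + 1))).symm.trans ?_
      exact congrArg (e _) (hy n)
    refine ⟨(e (ModuleCat.of A M)).symm z, fun n => (e (ModuleCat.of A (Formal2.quotPow A I M n))).injective ?_⟩
    refine (he (M := ModuleCat.of A M) (N := ModuleCat.of A (Formal2.quotPow A I M n)) (Formal2.quotPowπ A I M n) _).trans ?_
    exact (congrArg (hc fs (Formal2.quotPowπ A I M n) _) ((e (ModuleCat.of A M)).apply_symm_apply z)).trans (hz n)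

variable [IsAdicComplete I A]

/-- Degree zero. -/
theorem formal_zero (h0 : HcLim fs I M 0) (h1 : HcLim fs I M 1) (hml : HcML fs I M 0) :
    Formal2.FormalCohBijective A I M 0 (U₀ fs) := by
  haveI : IsAdicComplete I M := H24Adic.isAdicComplete_of_finite I
  let Q : ℕ → Type u := fun n => Formal2.quotPow A I M n
  let π : ∀ n, M →ₗ[A] Formal2.quotPow A I M n := fun n => Formal2.quotPowπ A I M n
  have hinj : ∀ x : Hv (U₀ fs) 0 M, (∀ n, hv (U₀ fs) (π n) 0 x = 0) → x = 0 := by
    intro x hx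
    obtain ⟨m, rfl⟩ := (PunctCech.ψ_eq_zero_iff fs x).1 (h1.1 _ fun n => by
      rw [← ψ_natural, hx n, map_zero])
    have ht : ∀ n, ∃ t, τ fs (Formal2.quotPow A I M n) t = π n m := fun n =>
      (PunctCech.η₀_eq_zero fs _).1 ((hv_η₀ fs (π n) m).symm.trans (hx n))
    choose t ht using ht
    obtain ⟨s, hs⟩ := h0.2 t fun n => PunctCech.τ_injective fs _ (by
      rw [τ_natural, ht, ht]
      rfl)
    refine (PunctCech.η₀_eq_zero fs m).2 ⟨s, sub_eq_zero.1 (IsHausdorff.haus (I := I) inferInstance _ fun n => ?_)⟩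
    refine SModEq.zero.2 (Submodule.smul_mono_left (Ideal.pow_le_pow_right n.le_succ) ?_)
    refine (Submodule.Quotient.mk_eq_zero (I ^ (n + 1) • (⊤ : Submodule A M))).1 ?_
    show π n (τ fs M s - m) = 0
    rw [map_sub, ← τ_natural, hs, ht, sub_self]
  refine ⟨fun x x' h => sub_eq_zero.1 (hinj (x - x') fun n => (map_sub _ x x').trans (sub_eq_zero.2 (h n))), fun y hy => ?_⟩
  let y' : ∀ n, Hv (U₀ fs) 0 (Formal2.quotPow A I M n) := y
  obtain ⟨g, hg⟩ := h1.2 (fun n => ψ fs (Formal2.quotPow A I M n) (y' n)) fun n =>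
    (ψ_natural fs (Formal2.quotPowTrans A I M n) (y' (n + 1))).symm.trans (congrArg (ψ fs _) (hy n))
  obtain ⟨x₀, hx₀⟩ := PunctCech.ψ_surjective fs g
  have hm : ∀ n, ∃ m, η₀ fs (Formal2.quotPow A I M n) m = y' n - hv (U₀ fs) (π n) 0 x₀ := fun n =>
    (PunctCech.ψ_eq_zero_iff fs _).1 (by rw [map_sub, ψ_natural, hx₀, hg n, sub_self])
  choose m hm using hm
  have hd : ∀ n, ∃ d, τ fs (Formal2.quotPow A I M n) d = Formal2.quotPowTrans A I M n (m (n + 1)) - m n := fun n => by
    refine (PunctCech.η₀_eq_zero fs _).1 ?_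
    rw [map_sub, ← hv_η₀, hm, hm, map_sub, sub_eq_zero]
    refine congrArg₂ (· - ·) (hy n) ?_
    rw [PunctCech.hv_comp, qle_trans', qle_π]
  choose d hd using hd
  obtain ⟨k, hk⟩ := exists_telescope_ml (K := fun n => Hc fs 0 (Formal2.quotPow A I M n))
    (fun {a b} h => (hc fs (qle A I M h) 0).toAddMonoidHom)
    (fun n x => hc_qt_self fs I M 0 (n + 1) x)
    (fun {a b c} h h' x => (PunctCech.hc_comp fs _ _ _ x).trans (congrArg (fun t => hc fs t 0 x) (qle_qle A I M h h')))
    (fun n => by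
      obtain ⟨l, hl, hr⟩ := hml (n + 1)
      exact ⟨l, (Nat.le_succ n).trans hl, fun k hk =>
        (hr (k + 1) (hk.trans k.le_succ)).trans (hr (l + 1) l.le_succ).symm⟩) d
  let m' : ∀ n, Formal2.quotPow A I M n := fun n => m n + τ fs _ (k n)
  have hm' : ∀ n, Formal2.quotPowTrans A I M n (m' (n + 1)) = m' n := fun n => by
    have h1 : hc fs (Formal2.quotPowTrans A I M n) 0 (k (n + 1)) = k n - d n := by
      rw [qle_trans', ← hk n]
      exact (sub_sub_cancel _ _).symm
    show Formal2.quotPowTrans A I M n (m (n + 1) + τ fs _ (k (n + 1))) = m n + τ fs _ (k n)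
    rw [map_add, ← τ_natural, h1, map_sub, hd]
    abel
  choose r hr using fun n => Submodule.mkQ_surjective (I ^ (n + 1) • (⊤ : Submodule A M)) (m' n)
  have hge : ∀ {a b : ℕ}, a ≤ b → r b - r a ∈ (I ^ (a + 1) • ⊤ : Submodule A M) := fun {a b} hab => by
    induction b, hab using Nat.le_induction with
    | base => rw [sub_self]; exact zero_mem _
    | succ b hb ih =>
      rw [← sub_add_sub_cancel (r (b + 1)) (r b) (r a)]
      refine add_mem (Submodule.smul_mono_left (Ideal.pow_le_pow_right (show a + 1 ≤ b + 1 by omega)) ?_) ih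
      refine (Submodule.Quotient.mk_eq_zero (I ^ (b + 1) • (⊤ : Submodule A M))).1 ?_
      show π b (r (b + 1) - r b) = 0
      rw [map_sub, sub_eq_zero]
      refine (congrArg (Formal2.quotPowTrans A I M b) (hr (b + 1)) : _).trans ?_
      rw [hm' b]
      exact (hr b).symm
  obtain ⟨L, hL⟩ := IsPrecomplete.prec (I := I) inferInstance (f := r) fun {a b} hab =>
    (SModEq.sub_mem.2 (Submodule.smul_mono_left (Ideal.pow_le_pow_right a.le_succ) (hge hab))).symm
  refine ⟨x₀ + η₀ fs M L, fun n => ?_⟩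
  have hLn : π n L = m' n := by
    rw [← hr n]
    refine (Submodule.Quotient.eq _).2 ?_
    rw [← sub_add_sub_cancel L (r (n + 1)) (r n)]
    exact add_mem (SModEq.sub_mem.1 (hL (n + 1)).symm) (hge n.le_succ)
  show hv (U₀ fs) (π n) 0 (x₀ + η₀ fs M L) = y' n
  rw [map_add, hv_η₀, hLn, map_add, hm, (PunctCech.η₀_eq_zero fs _).2 ⟨k n, rfl⟩]
  abel

/-- All degrees `≤ i`. -/
theorem formal_of_lim (i : ℕ) (hlim : ∀ j : ℕ, j ≤ i + 1 → HcLim fs I M (j : ℤ)) (hml : HcML fs I M 0) :
    Formal2.FormalCohBijective A I M i (U₀ fs) := by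
  cases i with
  | zero => exact formal_zero fs I M (hlim 0 (Nat.zero_le _)) (hlim 1 le_rfl) hml
  | succ i => exact formal_succ fs I M i (by exact_mod_cast hlim (i + 2) le_rfl)

end Groth.Agent.H3CAlg.GlobAlg
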