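import Groth.Agent.H3CAlg.GlobAlg.Good
import Groth.Agent.H4LC.FiniteH1
import Groth.Agent.H4DR.Dualizing.GlobalUnique
import Groth.Agent.H4DR.Dualizing.TopModule
import Groth.Agent.H4DR.HT.FaltingsModule
import Mathlib.RingTheory.Ideal.AssociatedPrime.Finiteness
import Mathlib.Algebra.Homology.Embedding.CochainComplex

/-!
# Dual dévissage for the torsion of completed local cohomology
-/

set_option autoImplicit false
set_option linter.style.haveILetI false
set_option linter.unusedVariables false
set_option linter.unusedSectionVars false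

universe u

open CategoryTheory CategoryTheory.Limits CochainComplex
open Groth.Agent.H4DR
open Groth.Agent.H4DR.Ext (Ex)
open Groth.Agent.H4DR.Dualizing (Loc deg)
open Groth.Agent.H4DR.Dualizing.WayOut (nonempty_dual_iso shortExact_dualS shortExact_single homCxPre_zero)

attribute [local instance] HasDerivedCategory.standard

namespace Groth.Agent.H3CAlg.GlobAlg

variable {A : Type u} [CommRing A] (E : DRing.Cx A)

/-- A module in degree `j`. -/
noncomputable abbrev sgl (j : ℤ) (N : ModuleCat.{u} A) : DRing.Cx A :=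
  (CochainComplex.singleFunctor (ModuleCat.{u} A) j).obj N

/-- The dual of a complex. -/
noncomputable abbrev dual (K : DRing.Cx A) : Dual.D A := DRing.toD (DRing.homCx K E)

theorem smul_id_dual {K : DRing.Cx A} {c : A} (h : c • 𝟙 K = 0) : c • 𝟙 (dual E K) = 0 := by
  have h1 : RHom.homCxPre (c • 𝟙 K) E = c • 𝟙 (DRing.homCx K E) :=
    HomologicalComplex.hom_ext _ _ fun i => ModuleCat.hom_ext (LinearMap.ext fun (z : HomComplex.Cochain K E i) => by
      show (HomComplex.Cochain.ofHom (c • 𝟙 K)).comp z (zero_add i) = c • z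
      exact HomComplex.Cochain.ext _ _ fun p q hpq => by simp)
  rw [h, homCxPre_zero] at h1
  show c • 𝟙 (DerivedCategory.Q.obj (DRing.homCx K E)) = 0
  rw [← CategoryTheory.Functor.map_id, ← Functor.map_smul, ← h1, Functor.map_zero]

theorem smul_id_sgl (j : ℤ) (N : ModuleCat.{u} A) {c : A} (h : ∀ x : N, c • x = 0) : c • 𝟙 (sgl j N) = 0 := by
  refine HomologicalComplex.hom_ext _ _ fun i => ?_
  by_cases hi : i = j
  · subst hi
    refine ModuleCat.hom_ext (LinearMap.ext fun x => ?_)
    let σ := (HomologicalComplex.singleObjXSelf (ComplexShape.up ℤ) i N).toLinearEquiv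
    show c • x = 0
    exact σ.injective ((σ.map_smul c x).trans ((h _).trans σ.map_zero.symm))
  · exact (HomologicalComplex.isZero_single_obj_X (ComplexShape.up ℤ) j N i hi).eq_of_src _ _

theorem nonempty_toD_sgl (j : ℤ) (N : ModuleCat.{u} A) : Nonempty (DRing.toD (sgl j N) ≅ (Dual.inD A N)⟦-j⟧) :=
  ⟨PCoh.singleIso N j⟩

variable [CochainComplex.IsKInjective E]

/-- The cohomology of the dual of a module. -/
theorem nonempty_hdEquiv (j : ℤ) (N : Type u) [AddCommGroup N] [Module A N] (l : ℤ) :
    Nonempty (Dual.HD A (dual E (sgl j (ModuleCat.of A N))) l ≃ₗ[A] Ex (Dual.inD A N) (DRing.toD E) (l + j)) :=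
  let ⟨e⟩ := nonempty_toD_sgl j (ModuleCat.of A N)
  ⟨(Dualizing.homClassEquiv _ E l).trans ((Ext.preIso e.symm _).trans
    (Ext.shiftSrc (Dual.inD A N) (DRing.toD E) (-j) (l + j) l (by omega)).symm)⟩

variable [IsNoetherianRing A] {E}
variable {a b : ℤ} (hv : DRing.VanishesOutside E a b) (hE : DRing.TermwiseInjective E)
  (hω : Dual.IsDualizing A (DRing.toD E))

theorem finite_HD_sgl (j : ℤ) (N : Type u) [AddCommGroup N] [Module A N] [Module.Finite A N] (i : ℤ) :
    Module.Finite A (Dual.HD A (DRing.toD (sgl j (ModuleCat.of A N))) i) := by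
  obtain ⟨e⟩ := nonempty_toD_sgl j (ModuleCat.of A N)
  haveI : Module.Finite A (Dual.HD A (Dual.inD A N) (-j + i)) := HT.finite_HD_inD N (-j + i)
  exact Module.Finite.equiv ((PCoh.hEquiv i e).trans (PCoh.hShift _ (-j) i (-j + i) rfl)).symm

include hv hE hω in
theorem finite_HD_dual (j : ℤ) (N : Type u) [AddCommGroup N] [Module A N] [Module.Finite A N] (i : ℤ) :
    Module.Finite A (Dual.HD A (dual E (sgl j (ModuleCat.of A N))) i) := by
  have h := (Dualizing.finite_homology_aux hv hE hω.finite_cohomology).of_finite _ (finite_HD_sgl j N) (-i)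
  rw [neg_neg] at h
  haveI := h
  exact Module.Finite.equiv (DComplete.hQ _ i).symm

include hv in
theorem subsingleton_HD_dual (j : ℤ) (N : Type u) [AddCommGroup N] [Module A N] (i : ℤ)
    (hi : i < a - j ∨ b - j < i) : Subsingleton (Dual.HD A (dual E (sgl j (ModuleCat.of A N))) i) := by
  rw [TorAmp.subsingleton_HD_toD_iff]
  refine Dualizing.exactAt_of_isZero ?_
  rcases hi with hi | hi
  · exact Dualizing.WayOut.isZero_dual_below E (fun l hl => hv l (Or.inl hl)) (q := j)
      (fun l hl => HomologicalComplex.isZero_single_obj_X (ComplexShape.up ℤ) j _ l (by omega)) hi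
  · exact Dualizing.WayOut.isZero_dual_above E (fun l hl => hv l (Or.inr hl)) (p := j)
      (fun l hl => HomologicalComplex.isZero_single_obj_X (ComplexShape.up ℤ) j _ l (by omega)) hi

include hv hE hω in
/-- `Ext(dual, ω)` is the module in degree `j`. -/
theorem mem_support_ex_dual (j : ℤ) (N : Type u) [AddCommGroup N] [Module A N] [Module.Finite A N] (m : ℤ)
    (q : PrimeSpectrum A) (hq : q ∈ Module.support A (Ex (dual E (sgl j (ModuleCat.of A N))) (DRing.toD E) m)) :
    m = j ∧ q ∈ Module.support A N := by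
  haveI := Dualizing.quasiIso_ddEta hv hE hω _ (finite_HD_sgl j N)
  obtain ⟨e⟩ := nonempty_toD_sgl j (ModuleCat.of A N)
  let L : Ex (dual E (sgl j (ModuleCat.of A N))) (DRing.toD E) m ≃ₗ[A] Dual.HD A (Dual.inD A N) (-j + m) :=
    (Dualizing.homClassEquiv (DRing.homCx (sgl j (ModuleCat.of A N)) E) E m).symm.trans
      ((PCoh.hEquiv m ((asIso (DerivedCategory.Q.map (Dualizing.ddEta E (sgl j (ModuleCat.of A N))))).symm ≪≫ e)).trans
        (PCoh.hShift _ (-j) m (-j + m) rfl))
  rw [L.support_eq] at hq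
  by_cases hm : m = j
  · subst hm
    rw [neg_add_cancel] at hq
    exact ⟨rfl, by rwa [(DComplete.e0 (ModuleCat.of A N)).support_eq] at hq⟩
  · haveI := PCoh.subsingleton_HD_inD (ModuleCat.of A N) (-j + m) (by omega)
    rw [Module.support_eq_empty] at hq
    exact absurd hq (Set.notMem_empty q)

variable {I 𝔞 : Ideal A} [DRing.HasDerivedCompletion I] [DRing.HasRgammaI 𝔞]

include hv hE hω in
theorem subsingleton_rgamma_dual (j : ℤ) (p : PrimeSpectrum A) (c : ℤ)
    (h : ∀ q : PrimeSpectrum A, p ≤ q → 𝔞 ≤ q.asIdeal → c < deg hω q - j) (l : ℤ) (hl : l ≤ c) :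
    Subsingleton (Dual.HD A ((DRing.RgammaI 𝔞).obj (dual E (sgl j (ModuleCat.of A (A ⧸ p.asIdeal))))) l) := by
  let W := dual E (sgl j (ModuleCat.of A (A ⧸ p.asIdeal)))
  obtain ⟨J, hJ, hk⟩ := (HT.exists_kill_iff hω (T := PrimeSpectrum.zeroLocus (𝔞 : Set A)) (T' := ∅)
    (H4LC.zeroLocus_stable 𝔞) (fun _ _ _ hx => hx.elim) c (K := W) (a := a - j)
    (fun i hi => subsingleton_HD_dual hv j _ i (Or.inl hi)) (finite_HD_dual hv hE hω j _)).2 (by
      rintro p' q - ⟨hpq, hq, i, hi, hns⟩
      rw [HT.subsingleton_LD_iff hω (m := a - j) (m' := b - j) (fun i hi => subsingleton_HD_dual hv j _ i hi)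
        (finite_HD_dual hv hE hω j _) p', not_not] at hns
      obtain ⟨hdeg, hp'⟩ := mem_support_ex_dual hv hE hω j _ _ p' hns
      rw [Module.support_eq_zeroLocus, Ideal.annihilator_quotient] at hp'
      have := h q ((show p ≤ p' from hp').trans hpq) hq
      omega)
  have hJtop : J = ⊤ := PrimeSpectrum.zeroLocus_empty_iff_eq_top.1 (Set.subset_empty_iff.1 hJ)
  obtain ⟨e⟩ := RG.nonempty_equiv_HDI 𝔞 W l
  refine subsingleton_of_forall_eq 0 fun x => (e.trans (HT.powEquiv 𝔞 (W⟦l⟧))).injective ?_
  rw [map_zero, ← one_smul A ((e.trans (HT.powEquiv 𝔞 (W⟦l⟧))) x)]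
  exact hk l hl 1 (hJtop ▸ Submodule.mem_top) _

theorem deg_mono {p q : PrimeSpectrum A} (h : p ≤ q) : deg hω p ≤ deg hω q := by
  obtain ⟨n, -, h1, -⟩ := Dualizing.exists_dim hω h
  omega

variable [IsAdicComplete I A] [DRing.HasRgammaI I] {d : ℕ} (hcd : LocCoh.CdLE A I d)
  (M : Type u) [AddCommGroup M] [Module A M] [Module.Finite A M] {s : ℕ}
  (H : ∀ p : PrimeSpectrum A, ¬ I ≤ p.asIdeal → (∃ r, p ≤ r ∧ I ≤ r.asIdeal ∧ ¬ 𝔞 ≤ r.asIdeal) →
    ∀ q : PrimeSpectrum A, p ≤ q → 𝔞 ≤ q.asIdeal →
      (s : ℕ∞) ≤ LocCoh.depth (Loc p) (LocalizedModule p.asIdeal.primeCompl M) ∨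
        ((d + s : ℕ) : ℕ∞) < LocCoh.depth (Loc p) (LocalizedModule p.asIdeal.primeCompl M) +
          ((deg hω q - deg hω p).toNat : ℕ∞))

include hv hE hω hcd H

/-- The building blocks. -/
theorem good_prime (j : ℤ) (p : PrimeSpectrum A)
    (hp : p ∈ Module.support A (Ex (Dual.inD A M) (DRing.toD E) j)) :
    Good I 𝔞 s (dual E (sgl j (ModuleCat.of A (A ⧸ p.asIdeal)))) := by
  have hkill : ∀ c ∈ p.asIdeal, c • 𝟙 (dual E (sgl j (ModuleCat.of A (A ⧸ p.asIdeal)))) = 0 := fun c hc =>
    smul_id_dual E (smul_id_sgl j _ fun x => by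
      obtain ⟨y, rfl⟩ := Submodule.Quotient.mk_surjective _ x
      exact (Submodule.Quotient.mk_eq_zero _).2 (p.asIdeal.mul_mem_right y hc))
  by_cases hIp : I ≤ p.asIdeal
  · exact Good.of_kill_I fun c hc => hkill c (hIp hc)
  by_cases hT : ∃ r, p ≤ r ∧ I ≤ r.asIdeal ∧ ¬ 𝔞 ≤ r.asIdeal
  swap
  · push Not at hT
    exact Good.of_kill (fun q hq hI => hT q hq hI) hkill
  obtain ⟨δ, D, hδ, -, -, -, -, hint⟩ := Dualizing.exists_interval hω M p (Dualizing.support_ex_subset hω M _ hp)
  have hj := (hint j hp).2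
  by_cases hs : (s : ℤ) ≤ deg hω p - j
  · refine Good.of_ge (b - j + 1 - (deg hω p - j)).toNat (deg hω p - j) _ hs (fun l hl => ?_)
      (finite_HD_dual hv hE hω j _)
    rcases hl with hl | hl
    · obtain ⟨e⟩ := nonempty_hdEquiv E j (A ⧸ p.asIdeal) l
      haveI : Subsingleton (Ex (Dual.inD A (A ⧸ p.asIdeal)) (DRing.toD E) (l + j)) := by
        rw [← Module.support_eq_empty_iff (R := A), Set.eq_empty_iff_forall_notMem]
        intro q hq
        have hqp := Dualizing.support_ex_subset hω _ _ hq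
        obtain ⟨δ', D', -, hD', -, -, -, hint'⟩ := Dualizing.exists_interval hω (A ⧸ p.asIdeal) q hqp
        obtain ⟨r, hr, -, hrd⟩ := (Dualizing.dim_localized_spec hω (A ⧸ p.asIdeal) q hD').2
        rw [Module.support_eq_zeroLocus, Ideal.annihilator_quotient] at hr
        have := deg_mono hω (show p ≤ r from hr)
        have := (hint' _ hq).1
        omega
      exact e.injective.subsingleton
    · exact subsingleton_HD_dual hv j _ l (Or.inr (by omega))
  · refine Good.of_high hcd (a := (d + s + 1 : ℕ)) (by push_cast; omega) fun l hl => ?_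
    refine subsingleton_rgamma_dual hv hE hω j p (d + s : ℕ) (fun q hpq hq => ?_) l (by omega)
    rcases H p hIp hT q hpq hq with h | h
    · rw [hδ, Nat.cast_le] at h
      omega
    · rw [hδ, ← Nat.cast_add, Nat.cast_lt] at h
      have := deg_mono hω hpq
      omega

/-- Modules supported in the support of `Ext^j(M, ω)`. -/
theorem good_module (j : ℤ) (N : Type u) [AddCommGroup N] [Module A N] [Module.Finite A N]
    (hN : ∀ q ∈ Module.support A N, q ∈ Module.support A (Ex (Dual.inD A M) (DRing.toD E) j)) :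
    Good I 𝔞 s (dual E (sgl j (ModuleCat.of A N))) := by
  revert hN
  refine IsNoetherianRing.induction_on_isQuotientEquivQuotientPrime A (M := N) inferInstance
    (motive := fun N _ _ _ => (∀ q ∈ Module.support A N, q ∈ Module.support A (Ex (Dual.inD A M) (DRing.toD E) j)) →
      Good I 𝔞 s (dual E (sgl j (ModuleCat.of A N)))) ?_ ?_ ?_
  · intro N _ _ _ _ _
    exact Good.of_zero fun l => by
      obtain ⟨e⟩ := nonempty_hdEquiv E j N l
      haveI : Subsingleton (Ex (Dual.inD A N) (DRing.toD E) (l + j)) := Ext.subsingleton_ex_of_subsingleton _ _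
      exact e.injective.subsingleton
  · intro N _ _ _ p e hN
    obtain ⟨g⟩ := nonempty_dual_iso E (DerivedCategory.Q.mapIso
      ((CochainComplex.singleFunctor (ModuleCat.{u} A) j).mapIso
        (LinearEquiv.toModuleIso (X₁ := ModuleCat.of A N) (X₂ := ModuleCat.of A (A ⧸ p.asIdeal)) e)))
    refine (good_prime hv hE hω hcd M H j p (hN p ?_)).of_iso g.symm
    rw [e.support_eq, Module.support_eq_zeroLocus, Ideal.annihilator_quotient]
    exact (PrimeSpectrum.mem_zeroLocus _ _).2 subset_rfl
  · intro N₁ _ _ _ N₂ _ _ _ N₃ _ _ _ f g hf hg hfg h1 h3 hN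
    let S : ShortComplex (ModuleCat.{u} A) := ShortComplex.mk (ModuleCat.ofHom f) (ModuleCat.ofHom g)
      (ModuleCat.hom_ext (LinearMap.ext fun m => hfg.apply_apply_eq_zero m))
    have hS : S.ShortExact := ShortComplex.ShortExact.mk'
      ((ShortComplex.moduleCat_exact_iff S).2 fun y hy => (hfg y).1 hy)
      ((ModuleCat.mono_iff_injective _).2 hf) ((ModuleCat.epi_iff_surjective _).2 hg)
    have hD := shortExact_dualS E hE (shortExact_single j hS)
    refine Good.ext (DerivedCategory.triangleOfSES hD) (DerivedCategory.triangleOfSES_distinguished hD) ?_ ?_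
    · exact h3 fun q hq => hN q (Module.support_subset_of_surjective g hg hq)
    · exact h1 fun q hq => hN q (Module.support_subset_of_injective f hf hq)

/-- Complexes with cohomology supported as that of the dual of `M`. -/
theorem good_complex : ∀ (n : ℕ) (c : ℤ) (K : DRing.Cx A),
    (∀ l : ℤ, l < c ∨ c + n < l → Subsingleton (Dual.HD A (DRing.toD K) l)) →
    (∀ l, Module.Finite A (Dual.HD A (DRing.toD K) l)) →
    (∀ l, ∀ q ∈ Module.support A (Dual.HD A (DRing.toD K) l), q ∈ Module.support A (Ex (Dual.inD A M) (DRing.toD E) l)) →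
      Good I 𝔞 s (dual E K) := by
  have one : ∀ (c : ℤ) (K : DRing.Cx A), (∀ l, l ≠ c → Subsingleton (Dual.HD A (DRing.toD K) l)) →
      Module.Finite A (Dual.HD A (DRing.toD K) c) →
      (∀ q ∈ Module.support A (Dual.HD A (DRing.toD K) c), q ∈ Module.support A (Ex (Dual.inD A M) (DRing.toD E) c)) →
      Good I 𝔞 s (dual E K) := fun c K h0 hfin hs => by
    obtain ⟨e⟩ := Dualizing.nonempty_iso_single c (X := DRing.toD K) h0 (LinearEquiv.refl A (Dual.HD A (DRing.toD K) c))
    obtain ⟨e'⟩ := nonempty_toD_sgl c (ModuleCat.of A (Dual.HD A (DRing.toD K) c))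
    obtain ⟨g⟩ := nonempty_dual_iso E (e ≪≫ e'.symm)
    haveI := hfin
    exact (good_module hv hE hω hcd M H c _ hs).of_iso g.symm
  intro n
  induction n with
  | zero => exact fun c K h0 hfin hs => one c K (fun l hl => h0 l (by omega)) (hfin c) (hs c)
  | succ n ih =>
    intro c K h0 hfin hs
    let S := K.shortComplexTruncLE c
    have hS : S.ShortExact := K.shortComplexTruncLE_shortExact c
    have h1hi : ∀ l, c < l → Subsingleton (Dual.HD A (DRing.toD S.X₁) l) := fun l hl => by
      rw [TorAmp.subsingleton_HD_toD_iff]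
      exact Dualizing.exactAt_of_isZero ((K.truncLE c).isZero_of_isStrictlyLE c l hl)
    have h1lo : ∀ l, l ≤ c → Nonempty (Dual.HD A (DRing.toD S.X₁) l ≃ₗ[A] Dual.HD A (DRing.toD K) l) := fun l hl => by
      haveI := K.quasiIsoAt_ιTruncLE c l hl
      exact ⟨((DComplete.hQ _ l).trans (asIso (HomologicalComplex.homologyMap (K.ιTruncLE c) l)).toLinearEquiv).trans
        (DComplete.hQ K l).symm⟩
    have h3lo : ∀ l, l ≤ c → Subsingleton (Dual.HD A (DRing.toD S.X₃) l) := fun l hl => by
      rw [TorAmp.subsingleton_HD_toD_iff]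
      have h := (HomologicalComplex.shortComplexTruncLE_X₃_isSupportedOutside K (ComplexShape.embeddingUpIntLE c)).exactAt (c - l).toNat
      rwa [show (ComplexShape.embeddingUpIntLE c).f (c - l).toNat = l by show c - ((c - l).toNat : ℤ) = l; omega] at h
    have h3hi : ∀ l, c < l → Nonempty (Dual.HD A (DRing.toD S.X₃) l ≃ₗ[A] Dual.HD A (DRing.toD K) l) := fun l hl => by
      haveI := HomologicalComplex.quasiIsoAt_shortComplexTruncLE_g K (ComplexShape.embeddingUpIntLE c) l fun i => by
        show c - (i : ℤ) ≠ l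
        omega
      exact ⟨((DComplete.hQ _ l).trans (asIso (HomologicalComplex.homologyMap S.g l)).symm.toLinearEquiv).trans
        (DComplete.hQ K l).symm⟩
    have hD := shortExact_dualS E hE hS
    refine Good.ext (DerivedCategory.triangleOfSES hD) (DerivedCategory.triangleOfSES_distinguished hD) ?_ ?_
    · refine ih (c + 1) S.X₃ (fun l hl => ?_) (fun l => ?_) fun l q hq => ?_
      · rcases hl with hl | hl
        · exact h3lo l (by omega)
        · obtain ⟨e⟩ := h3hi l (by omega)
          haveI := h0 l (Or.inr (by push_cast; omega))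
          exact e.injective.subsingleton
      · rcases le_or_gt l c with hl | hl
        · haveI := h3lo l hl
          infer_instance
        · obtain ⟨e⟩ := h3hi l hl
          haveI := hfin l
          exact Module.Finite.equiv e.symm
      · rcases le_or_gt l c with hl | hl
        · haveI := h3lo l hl
          rw [Module.support_eq_empty] at hq
          exact absurd hq (Set.notMem_empty q)
        · obtain ⟨e⟩ := h3hi l hl
          exact hs l q (e.support_eq ▸ hq)
    · obtain ⟨e⟩ := h1lo c le_rfl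
      haveI := hfin c
      refine one c S.X₁ (fun l hl => ?_) (Module.Finite.equiv e.symm) fun q hq => hs c q (e.support_eq ▸ hq)
      rcases lt_or_gt_of_ne hl with h | h
      · obtain ⟨e'⟩ := h1lo l h.le
        haveI := h0 l (Or.inl h)
        exact e'.injective.subsingleton
      · exact h1hi l h

/-- The module `M`. -/
theorem good_inD : Good I 𝔞 s (Dual.inD A M) := by
  let K₀ := DRing.homCx (sgl 0 (ModuleCat.of A M)) E
  haveI := Dualizing.quasiIso_ddEta hv hE hω _ (finite_HD_sgl 0 M)
  obtain ⟨e⟩ := nonempty_toD_sgl 0 (ModuleCat.of A M)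
  let eM : dual E K₀ ≅ Dual.inD A M :=
    (asIso (DerivedCategory.Q.map (Dualizing.ddEta E (sgl 0 (ModuleCat.of A M))))).symm ≪≫ e ≪≫
      (CategoryTheory.shiftFunctorZero' (Dual.D A) (-0 : ℤ) neg_zero).app _
  refine (good_complex hv hE hω hcd M H (b - a).toNat a K₀ (fun l hl => ?_) (finite_HD_dual hv hE hω 0 M)
    fun l q hq => ?_).of_iso eM
  · exact subsingleton_HD_dual hv 0 M l (by omega)
  · obtain ⟨g⟩ := nonempty_hdEquiv E 0 M l
    rw [g.support_eq, add_zero] at hq
    exact hq

end Groth.Agent.H3CAlg.GlobAlg
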