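import Groth.Agent.H3CAlg.GlobAlg.Key
import Groth.Agent.H3CAlg.GlobAlg.CechML
import Groth.Agent.H3CAlg.BootstrapJ0
import Groth.Agent.H3CAlg.Boot.Finish

/-!
# Formal cohomology over a punctured spectrum in all degrees below the bound
-/

set_option autoImplicit false
set_option linter.style.haveILetI false
set_option linter.unusedSectionVars false

universe u

open CategoryTheory
open Groth.Agent.H4DR
open Groth.Agent.H3CAlg.PunctCech (Hc hc U₀)
open Groth.Agent.H3CAlg.Boot (qt qt_mkQ)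

attribute [local instance] HasDerivedCategory.standard

namespace Groth.Agent.H3CAlg.GlobAlg

variable {A : Type u} [CommRing A] [IsNoetherianRing A]

theorem exists_list (J : Ideal A) : ∃ fs : List A, Ideal.ofList fs = J := by
  obtain ⟨s, hs⟩ := IsNoetherian.noetherian J
  exact ⟨s.toList, by rw [← hs, Ideal.ofList]; exact congrArg Ideal.span (Set.ext fun x => Finset.mem_toList)⟩

/-- The hypotheses of the bootstrap at `V(𝔞)`. -/
theorem hyp_of_bound (I 𝔞 : Ideal A) (hI : I ≤ 𝔞) (hω : ∃ ω : Dual.D A, Dual.IsDualizing A ω)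
    (d : ℕ) (hd : LocCoh.CdLE A I d) (M : Type u) [AddCommGroup M] [Module A M] [Module.Finite A M] (s : ℕ)
    (h₂ : ∀ (p : Ideal A) [p.IsPrime], ¬ 𝔞 ≤ p → ¬ I ≤ p →
      (s : ℕ∞) < LocCoh.depth (Localization.AtPrime p) (LocalizedModule p.primeCompl M) ∨
        ∀ (q : Ideal A) [q.IsPrime], p ≤ q → 𝔞 ≤ q →
          ((d + s + 1 : ℕ) : WithBot ℕ∞) <
            ((LocCoh.depth (Localization.AtPrime p) (LocalizedModule p.primeCompl M) : ℕ∞) : WithBot ℕ∞) +
              Formal2.dimBetween A p q) :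
    Boot.Hyp M I (PrimeSpectrum.zeroLocus (𝔞 : Set A)) s d where
  sub := PrimeSpectrum.zeroLocus_anti_mono_ideal hI
  h4 p r q hpr hrq hp _ _ hq := by
    rcases h₂ p.asIdeal (fun h => hp (hI.trans h)) hp with h | h
    · exact Or.inl h.le
    · exact Or.inr (lt_of_le_of_lt (by exact_mod_cast (d + s).le_succ) (h q.asIdeal (hpr.trans hrq) hq))
  h6 q hq p' hp' hmax := by
    have hIq : I ≤ q.asIdeal := hI.trans hq
    obtain ⟨p, hpq, hpI, hle, heq⟩ := Boot.depth_compare (M := M) hω q hIq p'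
    let R := Localization.AtPrime q.asIdeal
    haveI : IsNoetherianRing R := IsLocalization.isNoetherianRing q.asIdeal.primeCompl _ ‹_›
    haveI : IsNoetherianRing (Boot.Rhat I q) := H24Adic.isNoetherianRing_adicCompletion _
    haveI : IsLocalRing (Boot.Rhat I q) := S2290.result A I (IsNoetherian.noetherian _) q.asIdeal hIq
    rcases h₂ p.asIdeal (fun h => hpI hp' (hI.trans h)) (hpI hp') with h | h
    · exact h.trans_le hle
    have h1 := h q.asIdeal hpq hq
    rw [← heq] at h1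
    have hmapI : I.map (algebraMap A (Boot.Rhat I q)) =
        (I.map (algebraMap A R)).map (algebraMap R (Boot.Rhat I q)) := by
      rw [IsScalarTower.algebraMap_eq A R (Boot.Rhat I q), ← Ideal.map_map]
    rw [hmapI] at hmax
    have hIR : I.map (algebraMap A R) ≤ IsLocalRing.maximalIdeal R := by
      rw [← Localization.AtPrime.map_eq_maximalIdeal]; exact Ideal.map_mono hIq
    have hmh : (IsLocalRing.maximalIdeal R).map (algebraMap R (Boot.Rhat I q)) = IsLocalRing.maximalIdeal (Boot.Rhat I q) :=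
      IsLocalRing.eq_maximalIdeal (H26Boot.isMaximal_map_completion _ hIR)
    have hrad : (p'.asIdeal ⊔ (I.map (algebraMap A R)).map (algebraMap R (Boot.Rhat I q))).radical =
        IsLocalRing.maximalIdeal (Boot.Rhat I q) := by
      refine le_antisymm ((IsLocalRing.maximalIdeal.isMaximal _).isPrime.radical_le_iff.2 (sup_le
        (IsLocalRing.le_maximalIdeal p'.2.ne_top) ((Ideal.map_mono hIR).trans hmh.le))) ?_
      rw [Ideal.radical_eq_sInf]
      refine le_sInf fun Q hQ => ?_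
      obtain ⟨hle, hQp⟩ := hQ
      exact (IsLocalRing.eq_maximalIdeal (hmax ⟨Q, hQp⟩ (le_sup_left.trans hle) (le_sup_right.trans hle))).ge
    have hdim := S8797Aux.ringKrullDim_quotient_le_of_cdLE (S8797Aux.cdLE_map (S8797Aux.cdLE_map hd)) p'.asIdeal hrad
    by_contra hcon
    refine absurd (h1.trans_le (add_le_add (WithBot.coe_le_coe.2 (not_lt.1 hcon)) hdim)) (not_lt.2 ?_)
    exact_mod_cast (by omega : s + d ≤ d + s + 1)

/-- Mittag-Leffler for the Čech cohomology of `𝔞`. -/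
theorem hcML_of_hyp (I : Ideal A) (fs : List A) (hω : ∃ ω : Dual.D A, Dual.IsDualizing A ω)
    {d : ℕ} (hd : LocCoh.CdLE A I d) (M : Type u) [AddCommGroup M] [Module A M] [Module.Finite A M] {s : ℕ}
    (H : Boot.Hyp M I (PrimeSpectrum.zeroLocus ((Ideal.ofList fs : Ideal A) : Set A)) s d) (j : ℕ) (hj : j ≤ s) :
    HcML fs I M (j : ℤ) := by
  intro n
  obtain ⟨e, he⟩ := Sect0.exists_ht_cech fs j
  obtain ⟨l, hl, h⟩ := Boot.isML hω hd (H4LC.zeroLocus_stable _) H j hj n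
  refine ⟨l, hl, fun k hk => ?_⟩
  have key : ∀ (k : ℕ) (h : n ≤ k), Set.range (hc fs (qt I M h) (j : ℤ)) =
      e (ModuleCat.of A (M ⧸ (I ^ n • ⊤ : Submodule A M))) '' Set.range (Boot.Tmap _ (qt I M h) j) := fun k h => by
    rw [← Set.range_comp]
    refine Eq.trans ?_ (congrArg Set.range (funext fun z =>
      (he (X := ModuleCat.of A (M ⧸ (I ^ k • ⊤ : Submodule A M))) (Y := ModuleCat.of A (M ⧸ (I ^ n • ⊤ : Submodule A M)))
        (qt I M h) z).symm))
    exact ((e (ModuleCat.of A (M ⧸ (I ^ k • ⊤ : Submodule A M)))).surjective.range_comp _).symm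
  rw [key, key, h k hk]

/-- The limit property for `𝔞`. -/
theorem hcLim_of_hyp (I : Ideal A) (fs : List A) (hω : ∃ ω : Dual.D A, Dual.IsDualizing A ω)
    {d : ℕ} (hd : LocCoh.CdLE A I d) (M : Type u) [AddCommGroup M] [Module A M] [Module.Finite A M] {s : ℕ}
    (H : Boot.Hyp M I (PrimeSpectrum.zeroLocus ((Ideal.ofList fs : Ideal A) : Set A)) s d) (j : ℕ) (hj : j ≤ s) :
    HcLim fs I M (j : ℤ) := by
  obtain ⟨e, he⟩ := Sect0.exists_ht_cech fs j
  obtain ⟨⟨hinj, hsurj⟩, -⟩ := Boot.bijective_to_limit hω hd (H4LC.zeroLocus_stable _) H j hj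
  refine ⟨fun x hx => ?_, fun y hy => ?_⟩
  · obtain ⟨z, rfl⟩ := (e (ModuleCat.of A M)).surjective x
    rw [hinj z fun n => (map_eq_zero_iff (e (ModuleCat.of A (Formal2.quotPow A I M n))) (e _).injective).1
      ((he (X := ModuleCat.of A M) (Y := ModuleCat.of A (Formal2.quotPow A I M n)) _ z).trans (hx n)), map_zero]
  · obtain ⟨z, hz⟩ := hsurj (fun n => (e (ModuleCat.of A (Formal2.quotPow A I M n))).symm (y n)) fun n => by
      refine (e (ModuleCat.of A (Formal2.quotPow A I M n))).injective ?_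
      refine (he (X := ModuleCat.of A (Formal2.quotPow A I M (n + 1))) (Y := ModuleCat.of A (Formal2.quotPow A I M n)) _ _).trans ?_
      rw [AddEquiv.apply_symm_apply, AddEquiv.apply_symm_apply]
      exact hy n
    refine ⟨e (ModuleCat.of A M) z, fun n => ?_⟩
    refine (he (X := ModuleCat.of A M) (Y := ModuleCat.of A (Formal2.quotPow A I M n)) _ z).symm.trans ?_
    exact (congrArg (e (ModuleCat.of A (Formal2.quotPow A I M n))) (hz n)).trans (AddEquiv.apply_symm_apply _ _)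

/-- Mittag-Leffler passes to a smaller ideal with the same trace on `V(I)`. -/
theorem hcML_of_trace (I : Ideal A) (fs fs' : List A) (hle : Ideal.ofList fs' ≤ Ideal.ofList fs)
    (hV : ∀ p : PrimeSpectrum A, Ideal.ofList fs' ≤ p.asIdeal → I ≤ p.asIdeal → Ideal.ofList fs ≤ p.asIdeal)
    (M : Type u) [AddCommGroup M] [Module A M] [Module.Finite A M] (j : ℕ) (h : HcML fs I M (j : ℤ)) :
    HcML fs' I M (j : ℤ) := by
  obtain ⟨e, he⟩ := Boot.agree_lc_cech (A := A) fs j
  obtain ⟨e', he'⟩ := Boot.agree_lc_cech (A := A) fs' j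
  let ν : ∀ X : ModuleCat.{u} A, LocCoh.H (Ideal.ofList fs) j X →ₗ[A] LocCoh.H (Ideal.ofList fs') j X :=
    fun X => ((Dual2.HmapOfLE hle j).app X).hom
  let Q : ℕ → ModuleCat.{u} A := fun n => ModuleCat.of A (M ⧸ (I ^ n • ⊤ : Submodule A M))
  let ρ : ∀ X : ModuleCat.{u} A, Hc fs (j : ℤ) X → Hc fs' (j : ℤ) X := fun X x => e' X (ν X ((e X).symm x))
  have hρ : ∀ (n k : ℕ) (h : n ≤ k) (x : Hc fs (j : ℤ) (Q k)),
      ρ (Q n) (hc fs (qt I M h) (j : ℤ) x) = hc fs' (qt I M h) (j : ℤ) (ρ (Q k) x) := fun n k h x => by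
    obtain ⟨w, rfl⟩ := (e (Q k)).surjective x
    show e' (Q n) (ν (Q n) ((e (Q n)).symm (hc fs (qt I M h) (j : ℤ) (e (Q k) w)))) = _
    rw [← show e (Q n) (H4LC.Hmap (Ideal.ofList fs) (qt I M h) j w) = hc fs (qt I M h) (j : ℤ) (e (Q k) w) from
      he (M := Q k) (N := Q n) (qt I M h) w, AddEquiv.symm_apply_apply]
    show _ = hc fs' (qt I M h) (j : ℤ) (e' (Q k) (ν (Q k) ((e (Q k)).symm (e (Q k) w))))
    rw [AddEquiv.symm_apply_apply]
    refine Eq.trans ?_ (he' (M := Q k) (N := Q n) (qt I M h) (ν (Q k) w))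
    exact congrArg (e' (Q n))
      (congr($((Dual2.HmapOfLE hle j).naturality (ModuleCat.ofHom (qt I M h))).hom w))
  have hsurj : ∀ k, Function.Surjective (ρ (Q k)) := fun k => by
    refine (e' (Q k)).surjective.comp (Function.Surjective.comp ?_ (e (Q k)).symm.surjective)
    refine (Bootstrap.bijective_HmapOfLE_of_depth _ hle j (fun p hp hpn => ?_) j le_rfl).2
    have hpI : ¬ I ≤ p.asIdeal := fun h => hpn (hV p hp h)
    obtain ⟨x, hx, hxp⟩ := SetLike.not_le_iff_exists.1 hpI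
    haveI : Subsingleton (LocalizedModule p.asIdeal.primeCompl (M ⧸ (I ^ k • ⊤ : Submodule A M))) :=
      LocalizedModule.subsingleton_iff.2 fun y => by
        obtain ⟨v, rfl⟩ := Submodule.Quotient.mk_surjective _ y
        exact ⟨x ^ k, fun h => hxp (p.2.mem_of_pow_mem k h),
          (Submodule.Quotient.mk_eq_zero _).2 (Submodule.smul_mem_smul (Ideal.pow_mem_pow hx k) Submodule.mem_top)⟩
    show (j : ℕ∞) < LocCoh.idealDepth _ _
    rw [H4Depth.idealDepth_eq_top (Subsingleton.elim _ _)]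
    exact ENat.coe_lt_top j
  intro n
  obtain ⟨l, hl, hr⟩ := h n
  have key : ∀ (k : ℕ) (h : n ≤ k), Set.range (hc fs' (qt I M h) (j : ℤ)) =
      ρ (Q n) '' Set.range (hc fs (qt I M h) (j : ℤ)) := fun k h => by
    rw [← Set.range_comp, show ρ (Q n) ∘ hc fs (qt I M h) (j : ℤ) = hc fs' (qt I M h) (j : ℤ) ∘ ρ (Q k) from
      funext (hρ n k h)]
    exact ((hsurj k).range_comp _).symm
  exact ⟨l, hl, fun k hk => by rw [key, key, hr k hk]⟩

open AlgebraicGeometry in
theorem HVres_HVmap' {M N : Type u} [AddCommGroup M] [Module A M] [AddCommGroup N] [Module A N] (φ : M →ₗ[A] N) (i : ℕ)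
    {V V' : (Spec (CommRingCat.of A)).Opens} (h : V' ≤ V) (x : Formal2.HV A M i V) :
    Formal2.HVres A N i h (Formal2.HVmap A φ i V x) = Formal2.HVmap A φ i V' (Formal2.HVres A M i h x) :=
  (ConcreteCategory.congr_hom
    (((Sheaf.cohomologyPresheafFunctor (Opens.grothendieckTopology (Spec (CommRingCat.of A)).toTopCat) i).map
      ((SheafOfModules.toSheaf _).map (Formal2.tmodMap A φ))).naturality (homOfLE h).op) x).symm

variable (I 𝔞 : Ideal A) (hI : I ≤ 𝔞) [IsAdicComplete I A] (hω : ∃ ω : Dual.D A, Dual.IsDualizing A ω)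
  (d : ℕ) (hd : LocCoh.CdLE A I d) (M : Type u) [AddCommGroup M] [Module A M] [Module.Finite A M] (s : ℕ)
  (h₂ : ∀ (p : Ideal A) [p.IsPrime], ¬ 𝔞 ≤ p → ¬ I ≤ p →
    (s : ℕ∞) < LocCoh.depth (Localization.AtPrime p) (LocalizedModule p.primeCompl M) ∨
      ∀ (q : Ideal A) [q.IsPrime], p ≤ q → 𝔞 ≤ q →
        ((d + s + 1 : ℕ) : WithBot ℕ∞) <
          ((LocCoh.depth (Localization.AtPrime p) (LocalizedModule p.primeCompl M) : ℕ∞) : WithBot ℕ∞) +
            Formal2.dimBetween A p q)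

include hI hω hd h₂ in
/-- Below the bound, over `U` itself. -/
theorem formal_lt (i : ℕ) (hi : i < s) :
    Formal2.FormalCohBijective A I M i (LocCoh.puncturedOpen A 𝔞) := by
  obtain ⟨fs, rfl⟩ := exists_list 𝔞
  have H := hyp_of_bound I _ hI hω d hd M s h₂
  exact formal_of_lim fs I M i (fun j hj => hcLim_of_hyp I fs hω hd M H j (by omega))
    (by exact_mod_cast hcML_of_hyp I fs hω hd M H 0 (Nat.zero_le _))

include hI hω hd h₂ in
/-- Up to the bound, over small neighbourhoods of `U ∩ V(I)`. -/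
theorem exists_formal_le :
    ∃ J₀ : Ideal A, J₀ ≤ 𝔞 ∧
      PrimeSpectrum.zeroLocus (J₀ : Set A) ∩ PrimeSpectrum.zeroLocus (I : Set A) =
        PrimeSpectrum.zeroLocus (𝔞 : Set A) ∩ PrimeSpectrum.zeroLocus (I : Set A) ∧
      ∀ J' : Ideal A, J' ≤ J₀ →
        PrimeSpectrum.zeroLocus (J' : Set A) ∩ PrimeSpectrum.zeroLocus (I : Set A) =
          PrimeSpectrum.zeroLocus (𝔞 : Set A) ∩ PrimeSpectrum.zeroLocus (I : Set A) →
        ∀ i : ℕ, i ≤ s → Formal2.FormalCohBijective A I M i (LocCoh.puncturedOpen A J') := by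
  obtain ⟨sI, hsI⟩ := IsNoetherian.noetherian I
  haveI : DRing.HasDerivedCompletion I := hsI ▸ DComplete.hasDerivedCompletion sI
  obtain ⟨J₀, hle, hV₀, hkey⟩ := exists_algebraize_global I 𝔞 hω M (s + 1) d hd fun p hpI hr q hpq hq hqI => by
    obtain ⟨r, hpr, -, hr⟩ := hr
    rcases h₂ p.asIdeal (fun h => hr (h.trans hpr)) hpI with h | h
    · exact Or.inl (Order.add_one_le_of_lt h)
    · exact Or.inr (h q.asIdeal hpq hq)
  refine ⟨J₀, hle, hV₀, ?_⟩
  intro J' hJ' hV i hi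
  obtain ⟨fs, rfl⟩ := exists_list 𝔞
  obtain ⟨fs', rfl⟩ := exists_list J'
  have H := hyp_of_bound I _ hI hω d hd M s h₂
  have hml : ∀ j : ℕ, j ≤ s → HcML fs' I M (j : ℤ) := fun j hj =>
    hcML_of_trace I fs fs' (hJ'.trans hle) (fun p h1 h2 =>
      (hV.le (show p ∈ PrimeSpectrum.zeroLocus ((Ideal.ofList fs' : Ideal A) : Set A) ∩
        PrimeSpectrum.zeroLocus (I : Set A) from ⟨h1, h2⟩)).1) M j (hcML_of_hyp I fs hω hd M H j hj)
  haveI : DRing.HasRgammaI (Ideal.ofList fs') := RG.hasRgammaI _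
  refine formal_of_lim fs' I M i (fun j hj => hcLim_of_ml fs' I M (j : ℤ)
    (PunctCech.bijective_homologyMap_ηC fs' I rfl M (j : ℤ)
      (hkey (Ideal.ofList fs') hJ' hV (j : ℤ) (by exact_mod_cast (show j ≤ s + 1 by omega)))) ?_)
    (by exact_mod_cast hml 0 (Nat.zero_le _))
  cases j with
  | zero =>
    intro n
    haveI := PunctCech.subsingleton_Hc_neg fs' (M ⧸ (I ^ n • ⊤ : Submodule A M)) (((0 : ℕ) : ℤ) - 1) (by norm_num)
    exact ⟨n, le_rfl, fun k hk => Set.ext fun x =>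
      ⟨fun _ => ⟨0, Subsingleton.elim _ _⟩, fun _ => ⟨0, Subsingleton.elim _ _⟩⟩⟩
  | succ j =>
    rw [show ((j + 1 : ℕ) : ℤ) - 1 = (j : ℤ) by omega]
    exact hml j (by omega)

include hI hω hd h₂ in
/-- In the critical degree. -/
theorem formal_colim : Formal2.FormalCohColimBijective A I M s (LocCoh.puncturedOpen A 𝔞) := by
  obtain ⟨J₀, hle, hV₀, hJ⟩ := exists_formal_le I 𝔞 hI hω d hd M s h₂
  have adm : ∀ J' : Ideal A, J' ≤ J₀ →
      PrimeSpectrum.zeroLocus (J' : Set A) ∩ PrimeSpectrum.zeroLocus (I : Set A) =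
        PrimeSpectrum.zeroLocus (𝔞 : Set A) ∩ PrimeSpectrum.zeroLocus (I : Set A) →
      Formal2.Admissible A I (LocCoh.puncturedOpen A 𝔞) (LocCoh.puncturedOpen A J') := fun J' hJ' hV =>
    ⟨fun p hp ha => hp (fun x hx => ha (hle (hJ' hx))), fun p hp hpI hJp => hp (hV.le ⟨hJp, hpI⟩).1⟩
  refine ⟨fun V hV x hx => ?_, fun y hy => ?_⟩
  · obtain ⟨K, rfl⟩ := Sect0.opens_eq_punctured A V
    have hVK : PrimeSpectrum.zeroLocus ((J₀ * K : Ideal A) : Set A) ∩ PrimeSpectrum.zeroLocus (I : Set A) =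
        PrimeSpectrum.zeroLocus (𝔞 : Set A) ∩ PrimeSpectrum.zeroLocus (I : Set A) := by
      refine Set.ext fun q => ⟨fun hq => ⟨?_, hq.2⟩, fun hq => ⟨fun x hx => hq.1 (hle (Ideal.mul_le_left hx)), hq.2⟩⟩
      rcases q.2.mul_le.1 (show J₀ * K ≤ q.asIdeal from hq.1) with h | h
      · exact (hV₀.le ⟨h, hq.2⟩).1
      · by_contra hqa
        exact hV.2 q hqa hq.2 h
    have hsub : LocCoh.puncturedOpen A (J₀ * K) ≤ LocCoh.puncturedOpen A K :=
      fun p hp hK => hp (fun z hz => hK (Ideal.mul_le_right hz))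
    refine ⟨_, ⟨adm _ Ideal.mul_le_left hVK, hsub⟩, (hJ _ Ideal.mul_le_left hVK s le_rfl).1 _ 0 fun n => ?_⟩
    exact (HVres_HVmap' _ s hsub x).symm.trans ((congrArg (Formal2.HVres A _ s hsub) (hx n)).trans ((map_zero _).trans (map_zero _).symm))
  · obtain ⟨x, hx⟩ := (hJ J₀ le_rfl hV₀ s le_rfl).2 (fun n => Formal2.HVres A _ s (adm J₀ le_rfl hV₀).1 (y n))
      fun n => (HVres_HVmap' _ s _ _).symm.trans (congrArg (Formal2.HVres A _ s (adm J₀ le_rfl hV₀).1) (hy n))
    exact ⟨_, adm J₀ le_rfl hV₀, x, fun n => (hx n).symm⟩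

end Groth.Agent.H3CAlg.GlobAlg
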