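import Groth.Agent.H3CAlg.GlobAlg.RGTri
import Groth.Agent.H4DR.RG.CechCompl
import Groth.Agent.H4DR.RG.CechH0

/-!
# Objects whose completed local cohomology is torsion outside `V(I)`
-/

set_option autoImplicit false
set_option linter.style.haveILetI false
set_option linter.unusedVariables false

universe u

open CategoryTheory CategoryTheory.Limits Pretriangulated
open Groth.Agent.H4DR

attribute [local instance] HasDerivedCategory.standard

namespace Groth.Agent.H3CAlg.GlobAlg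

variable {A : Type u} [CommRing A]

/-- `V(L) ∩ V(I) ⊆ V(𝔞)`. -/
def Avoid (I 𝔞 L : Ideal A) : Prop := ∀ q : PrimeSpectrum A, L ≤ q.asIdeal → I ≤ q.asIdeal → 𝔞 ≤ q.asIdeal

theorem avoid_self (I 𝔞 : Ideal A) : Avoid I 𝔞 𝔞 := fun _ h _ => h

theorem avoid_top (I 𝔞 : Ideal A) : Avoid I 𝔞 ⊤ := fun q h _ => absurd (top_le_iff.1 h) q.2.ne_top

theorem Avoid.mul {I 𝔞 L L' : Ideal A} (h : Avoid I 𝔞 L) (h' : Avoid I 𝔞 L') : Avoid I 𝔞 (L * L') :=
  fun q hq hI => (q.2.mul_le.1 hq).elim (fun h1 => h q h1 hI) fun h1 => h' q h1 hI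

theorem Avoid.le_radical {I 𝔞 L : Ideal A} (h : Avoid I 𝔞 L) : 𝔞 ≤ (L ⊔ I).radical := by
  rw [Ideal.radical_eq_sInf]
  exact le_sInf fun q ⟨hq, hqp⟩ => h ⟨q, hqp⟩ (le_sup_left.trans hq) (le_sup_right.trans hq)

theorem avoid_of_le_radical {I 𝔞 L : Ideal A} (h : 𝔞 ≤ (L ⊔ I).radical) : Avoid I 𝔞 L :=
  fun q hL hI => h.trans (q.2.radical_le_iff.2 (sup_le hL hI))

variable [IsNoetherianRing A] (I 𝔞 : Ideal A) [DRing.HasDerivedCompletion I] [DRing.HasRgammaI 𝔞]

/-- The completion of `RΓ_𝔞 W` has `L`-torsion cohomology up to degree `s`, for some avoiding `L`. -/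
def Good (s : ℤ) (W : Dual.D A) : Prop :=
  ∃ L : Ideal A, Avoid I 𝔞 L ∧ CompTor I L s ((DRing.RgammaI 𝔞).obj W)

variable {I 𝔞}

omit [DRing.HasRgammaI 𝔞] in
theorem compTor_mono {L L' : Ideal A} (h : L' ≤ L) {c : ℤ} {W : Dual.D A} (hW : CompTor I L c W) :
    CompTor I L' c W := fun i hi x => by
  obtain ⟨n, hn⟩ := hW i hi x
  exact ⟨n, fun a ha => hn a (Ideal.pow_right_mono h n ha)⟩

theorem Good.of_iso {s : ℤ} {W W' : Dual.D A} (e : W ≅ W') (h : Good I 𝔞 s W) : Good I 𝔞 s W' :=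
  let ⟨L, hL, hW⟩ := h
  ⟨L, hL, hW.of_iso ((DRing.RgammaI 𝔞).mapIso e)⟩

theorem Good.ext {s : ℤ} (T : Triangle (Dual.D A)) (hT : T ∈ distTriang (Dual.D A))
    (h1 : Good I 𝔞 s T.obj₁) (h3 : Good I 𝔞 s T.obj₃) : Good I 𝔞 s T.obj₂ := by
  obtain ⟨L₁, hL₁, h1⟩ := h1
  obtain ⟨L₃, hL₃, h3⟩ := h3
  obtain ⟨T', hT', ⟨e1⟩, ⟨e2⟩, ⟨e3⟩⟩ := exists_rgamma_triangle 𝔞 T hT
  exact ⟨L₁ * L₃, hL₁.mul hL₃, (CompTor.ext T' hT' ((compTor_mono Ideal.mul_le_left h1).of_iso e1.symm)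
    ((compTor_mono Ideal.mul_le_right h3).of_iso e3.symm)).of_iso e2⟩

omit [DRing.HasDerivedCompletion I] in
theorem rgamma_smul_id {W : Dual.D A} {c : A} (h : c • 𝟙 W = 0) : c • 𝟙 ((DRing.RgammaI 𝔞).obj W) = 0 := by
  refine (RG.bijective_postcomp_ε (RG.isTors_rgamma W) W).1 ?_
  show (c • 𝟙 _) ≫ (DRing.RgammaIε 𝔞).app W = 0 ≫ _
  refine (Linear.smul_comp _ _ _ _ _ _).trans ?_
  rw [Category.id_comp, zero_comp]
  calc c • (DRing.RgammaIε 𝔞).app W = (DRing.RgammaIε 𝔞).app W ≫ (c • 𝟙 W) := by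
        rw [Linear.comp_smul]; exact congrArg (c • ·) (Category.comp_id _).symm
    _ = 0 := by rw [h]; exact comp_zero

omit [DRing.HasRgammaI 𝔞] in
theorem completion_smul_id {W : Dual.D A} {c : A} (h : c • 𝟙 W = 0) :
    c • 𝟙 ((DRing.derivedCompletion I).obj W).obj = 0 := by
  refine ((DComplete.isCompletion_unit (I := I) W).bij _ ((DRing.derivedCompletion I).obj W).property).1 ?_
  show DRing.toDerivedCompletion I W ≫ (c • 𝟙 _) = DRing.toDerivedCompletion I W ≫ 0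
  refine (Linear.comp_smul _ _ _ _ _ _).trans ?_
  rw [comp_zero]
  calc c • (DRing.toDerivedCompletion I W ≫ 𝟙 _) = (c • 𝟙 W) ≫ DRing.toDerivedCompletion I W := by
        rw [Linear.smul_comp, Category.id_comp]; exact congrArg (c • ·) (Category.comp_id _)
    _ = 0 := by rw [h]; exact zero_comp

omit [IsNoetherianRing A] [DRing.HasDerivedCompletion I] [DRing.HasRgammaI 𝔞] in
theorem smul_HD_eq_zero {W : Dual.D A} {c : A} (h : c • 𝟙 W = 0) (i : ℤ) (x : Dual.HD A W i) : c • x = 0 := by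
  have h1 := Hom.H_map_smul c (𝟙 W) i
  rw [h, CategoryTheory.Functor.map_zero, CategoryTheory.Functor.map_id] at h1
  exact (congrArg (fun t => t.hom x) h1).symm

/-- Killed by an ideal which avoids. -/
theorem Good.of_kill {s : ℤ} {W : Dual.D A} {L : Ideal A} (hL : Avoid I 𝔞 L) (h : ∀ c ∈ L, c • 𝟙 W = 0) :
    Good I 𝔞 s W :=
  ⟨L, hL, fun i _ x => ⟨1, fun c hc => smul_HD_eq_zero (completion_smul_id (rgamma_smul_id (h c (by
    rwa [pow_one] at hc)))) i x⟩⟩

/-- Killed by `I`. -/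
theorem Good.of_kill_I {s : ℤ} {W : Dual.D A} (h : ∀ c ∈ I, c • 𝟙 W = 0) : Good I 𝔞 s W := by
  haveI : DRing.HasRgammaI I := RG.hasRgammaI I
  let X := (DRing.RgammaI 𝔞).obj W
  have hX : RG.IsTors I X := fun i x => ⟨1, fun c hc => smul_HD_eq_zero (rgamma_smul_id (h c (by rwa [pow_one] at hc))) i x⟩
  have hXc : RG.IsTors I ((DRing.derivedCompletion I).obj X).obj := fun i x => ⟨1, fun c hc =>
    smul_HD_eq_zero (completion_smul_id (rgamma_smul_id (h c (by rwa [pow_one] at hc)))) i x⟩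
  haveI := RG.isIso_ε I X hX
  haveI := RG.isIso_ε I _ hXc
  obtain ⟨g⟩ := (RG.nonempty_greenlees_may I X).1
  let e : ((DRing.derivedCompletion I).obj X).obj ≅ X :=
    (asIso ((DRing.RgammaIε I).app _)).symm ≪≫ g ≪≫ asIso ((DRing.RgammaIε I).app X)
  exact ⟨𝔞, avoid_self I 𝔞, fun i _ => RG.isTors_of_iso e.symm (RG.isTors_rgamma W) i⟩

/-- Nothing in low degrees. -/
theorem Good.of_high [DRing.HasRgammaI I] {d : ℕ} (hcd : LocCoh.CdLE A I d) {s a : ℤ} (hsa : s + d < a) {W : Dual.D A}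
    (h : ∀ j, j < a → Subsingleton (Dual.HD A ((DRing.RgammaI 𝔞).obj W) j)) : Good I 𝔞 s W :=
  ⟨⊤, avoid_top I 𝔞, compTor_of_high hcd hsa h⟩

theorem Good.of_zero {s : ℤ} {W : Dual.D A} (h : ∀ j, Subsingleton (Dual.HD A W j)) : Good I 𝔞 s W := by
  refine Good.of_kill (avoid_top I 𝔞) fun c _ => ?_
  have h0 : IsZero W := by
    obtain ⟨e⟩ := Dualizing.nonempty_iso_single 0 (X := W) (fun j _ => h j) (LinearEquiv.refl A (Dual.HD A W 0))
    haveI := h 0
    exact IsZero.of_iso ((shiftFunctor (Dual.D A) (-0 : ℤ)).map_isZero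
      (Functor.map_isZero _ (ModuleCat.isZero_of_subsingleton (ModuleCat.of A (Dual.HD A W 0))))) e
  exact h0.eq_of_src _ _

section Module

variable [IsAdicComplete I A] (N : Type u) [AddCommGroup N] [Module A N] [Module.Finite A N]

omit [IsAdicComplete I A] in
theorem subsingleton_completion_rgamma_neg (i : ℤ) (hi : i < 0) :
    Subsingleton (Dual.HD A ((DRing.derivedCompletion I).obj ((DRing.RgammaI 𝔞).obj (Dual.inD A N))).obj i) := by
  obtain ⟨fs, hfs⟩ := RG.exists_ofList_eq (IsNoetherian.noetherian 𝔞)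
  obtain ⟨E, -⟩ := (DComplete.isCompletion_unit (I := I) ((DRing.RgammaI 𝔞).obj (Dual.inD A N))).exists_iso
    ((RG.isCompletion_cech I (ModuleCat.of A N) fs).of_iso (RG.cechIso hfs (ModuleCat.of A N)).symm (Iso.refl _))
  refine @Function.Injective.subsingleton _ _ (PCoh.hEquiv i E) (PCoh.hEquiv i E).injective ?_
  rw [TorAmp.subsingleton_HD_toD_iff]
  refine (HomologicalComplex.exactAt_iff _ _).2 (ShortComplex.exact_of_isZero_X₂ _ ?_)
  exact (DComplete.acF I).map_isZero (@ModuleCat.isZero_of_subsingleton _ _ _ (H4Cech.subsingleton_X_of_neg (ModuleCat.of A N) fs i hi))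

/-- The degree zero cohomology is torsion for one avoiding ideal. -/
theorem exists_compTor_module : ∃ L : Ideal A, Avoid I 𝔞 L ∧ CompTor I L 0 ((DRing.RgammaI 𝔞).obj (Dual.inD A N)) := by
  let S : Set (Submodule A N) := {T | ∃ L : Ideal A, L ≤ 𝔞 ∧ Avoid I 𝔞 L ∧ DRing.torsionSub L N = T}
  obtain ⟨T, ⟨L₁, hle₁, hL₁, rfl⟩, hmax⟩ := set_has_maximal_iff_noetherian.2 inferInstance S
    ⟨_, 𝔞, le_rfl, avoid_self I 𝔞, rfl⟩
  have mono : ∀ {P Q : Ideal A}, P ≤ Q → DRing.torsionSub Q N ≤ DRing.torsionSub P N := fun {P Q} h m hm => by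
    obtain ⟨n, hn⟩ := hm
    exact ⟨n, fun a ha => hn a (Ideal.pow_right_mono h n ha)⟩
  have hall : ∀ L : Ideal A, L ≤ 𝔞 → Avoid I 𝔞 L → DRing.torsionSub L N ≤ DRing.torsionSub L₁ N := fun L hle hL => by
    have h12 : DRing.torsionSub L₁ N ≤ DRing.torsionSub (L₁ * L) N := mono Ideal.mul_le_left
    have := hmax _ ⟨L₁ * L, Ideal.mul_le_left.trans hle₁, hL₁.mul hL, rfl⟩
    exact (mono Ideal.mul_le_right).trans (eq_of_le_of_not_lt h12 this).ge
  refine ⟨L₁, hL₁, fun i hi => ?_⟩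
  rcases hi.lt_or_eq with hneg | rfl
  · haveI := subsingleton_completion_rgamma_neg (I := I) (𝔞 := 𝔞) N i hneg
    exact fun x => ⟨0, fun a _ => Subsingleton.elim _ _⟩
  obtain ⟨fs, hfs⟩ := RG.exists_ofList_eq (IsNoetherian.noetherian 𝔞)
  obtain ⟨hinj, hrange⟩ := RG.h0_completion_rgamma I (ModuleCat.of A N) hfs
  intro x
  have hx := Set.mem_range_self (f := PCoh.hm 0 ((ObjectProperty.ι (DRing.IsDerivedComplete I)).map
      ((DRing.derivedCompletion I).map ((DRing.RgammaIε 𝔞).app (Dual.inD A N))))) x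
  obtain ⟨m, ⟨J', hle, hrad, hm⟩, hmx⟩ := hrange.le hx
  obtain ⟨k, hk⟩ := hall J' hle (avoid_of_le_radical hrad) hm
  refine ⟨k, fun a ha => hinj ?_⟩
  rw [map_smul, map_zero]
  refine (congrArg (fun t => a • t) hmx.symm).trans ?_
  show a • PCoh.hm 0 _ ((DComplete.e0 (ModuleCat.of A N)).symm m) = 0
  rw [← map_smul, ← map_smul, hk a ha, map_zero, map_zero]

variable {N}

/-- A finite module placed in degree `l ≥ s`. -/
theorem Good.single {s l : ℤ} (hl : s ≤ l) : Good I 𝔞 s ((Dual.inD A N)⟦-l⟧) := by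
  obtain ⟨L, hL, h⟩ := exists_compTor_module (I := I) (𝔞 := 𝔞) N
  obtain ⟨e1⟩ := nonempty_rgamma_shift 𝔞 (Dual.inD A N) (-l)
  obtain ⟨e2⟩ := nonempty_completion_shift I ((DRing.RgammaI 𝔞).obj (Dual.inD A N)) (-l)
  refine ⟨L, hL, CompTor.of_iso e1.symm fun i hi x => ?_⟩
  let g := (PCoh.hEquiv i e2).trans (PCoh.hShift _ (-l) i (i - l) (by omega))
  obtain ⟨k, hk⟩ := h (i - l) (by omega) (g x)
  exact ⟨k, fun a ha => g.injective (by rw [map_smul, map_zero]; exact hk a ha)⟩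

end Module

/-- Bounded finite cohomology in degrees `≥ s`. -/
theorem Good.of_ge [IsAdicComplete I A] {s : ℤ} :
    ∀ (n : ℕ) (a : ℤ) (W : Dual.D A), s ≤ a → (∀ j, j < a ∨ a + n ≤ j → Subsingleton (Dual.HD A W j)) →
      (∀ j, Module.Finite A (Dual.HD A W j)) → Good I 𝔞 s W := by
  intro n
  induction n with
  | zero => exact fun a W _ hW _ => Good.of_zero fun j => hW j (by omega)
  | succ n ih =>
    intro a W ha hW hfin
    obtain ⟨Δ, hΔ, rfl, h1, h3, hb1, hb2⟩ := Ext.exists_trunc W (a + 1)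
    refine Good.ext Δ hΔ ?_ (ih (a + 1) Δ.obj₃ (by omega) (fun j hj => ?_) fun j => ?_)
    · obtain ⟨e⟩ := Dualizing.nonempty_iso_single a (X := Δ.obj₁) (fun j hj => by
        rcases lt_or_gt_of_ne hj with h | h
        · haveI := hW j (Or.inl h)
          exact (hb1 j (by omega)).1.subsingleton
        · exact h1 j (by omega)) (LinearEquiv.ofBijective (PCoh.hm a Δ.mor₁) (hb1 a (by omega)))
      haveI := hfin a
      exact (Good.single (N := Dual.HD A Δ.obj₂ a) ha).of_iso e.symm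
    · rcases hj with hj | hj
      · exact h3 j hj
      · haveI := hW j (Or.inr (by omega))
        exact (hb2 j (by omega)).2.subsingleton
    · rcases lt_or_ge j (a + 1) with hj | hj
      · haveI := h3 j hj
        infer_instance
      · haveI := hfin j
        exact Module.Finite.of_surjective _ (hb2 j hj).2

end Groth.Agent.H3CAlg.GlobAlg
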