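import Groth.Agent.H3CAlg.GlobAlg.Dual
import Groth.Agent.H3CAlg.AlgebraizeLC
import Groth.Agent.H24Formal2.DimBetween

/-!
# Algebraizing local cohomology over an adically complete ring
-/

set_option autoImplicit false
set_option linter.style.haveILetI false
set_option linter.unusedVariables false

universe u

open CategoryTheory CategoryTheory.Limits
open Groth.Agent.H4DR
open Groth.Agent.H4DR.Dualizing (Loc deg)

attribute [local instance] HasDerivedCategory.standard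

namespace Groth.Agent.H3CAlg.GlobAlg

variable {A : Type u} [CommRing A] [IsNoetherianRing A]

theorem avoid_iff_zeroLocus {I J L : Ideal A} :
    Avoid I (J ⊔ I) L ↔ PrimeSpectrum.zeroLocus (L : Set A) ∩ PrimeSpectrum.zeroLocus (I : Set A) ⊆
      PrimeSpectrum.zeroLocus (J : Set A) ∩ PrimeSpectrum.zeroLocus (I : Set A) :=
  ⟨fun h q hq => ⟨le_sup_left.trans (h q hq.1 hq.2), hq.2⟩, fun h q hL hI => sup_le (h ⟨hL, hI⟩).1 hI⟩

theorem radical_sup_eq {I J J' : Ideal A}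
    (h : PrimeSpectrum.zeroLocus (J' : Set A) ∩ PrimeSpectrum.zeroLocus (I : Set A) =
      PrimeSpectrum.zeroLocus (J : Set A) ∩ PrimeSpectrum.zeroLocus (I : Set A)) :
    (J' ⊔ I).radical = (J ⊔ I).radical := by
  rw [← PrimeSpectrum.zeroLocus_sup, ← PrimeSpectrum.zeroLocus_sup] at h
  exact PrimeSpectrum.zeroLocus_eq_iff.1 h

/-- Algebraization of local cohomology. -/
theorem exists_algebraize_global (I J : Ideal A) [IsAdicComplete I A] (hdc : ∃ ω : Dual.D A, Dual.IsDualizing A ω)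
    [DRing.HasDerivedCompletion I] (M : Type u) [AddCommGroup M] [Module A M] [Module.Finite A M] (s d : ℕ)
    (hd : LocCoh.CdLE A I d)
    (h : ∀ p : PrimeSpectrum A, ¬ I ≤ p.asIdeal → (∃ r, p ≤ r ∧ I ≤ r.asIdeal ∧ ¬ J ≤ r.asIdeal) →
      ∀ q : PrimeSpectrum A, p ≤ q → J ≤ q.asIdeal → I ≤ q.asIdeal →
        (s : ℕ∞) ≤ LocCoh.depth (Loc p) (LocalizedModule p.asIdeal.primeCompl M) ∨
          ((d + s : ℕ) : WithBot ℕ∞) <
            ((LocCoh.depth (Loc p) (LocalizedModule p.asIdeal.primeCompl M) : ℕ∞) : WithBot ℕ∞) +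
              Formal2.dimBetween A p.asIdeal q.asIdeal) :
    ∃ J₀ : Ideal A, J₀ ≤ J ∧
      PrimeSpectrum.zeroLocus (J₀ : Set A) ∩ PrimeSpectrum.zeroLocus (I : Set A) =
        PrimeSpectrum.zeroLocus (J : Set A) ∩ PrimeSpectrum.zeroLocus (I : Set A) ∧
      ∀ (J' : Ideal A) [DRing.HasRgammaI J'], J' ≤ J₀ →
        PrimeSpectrum.zeroLocus (J' : Set A) ∩ PrimeSpectrum.zeroLocus (I : Set A) =
          PrimeSpectrum.zeroLocus (J : Set A) ∩ PrimeSpectrum.zeroLocus (I : Set A) →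
        ∀ i : ℤ, i ≤ s → Function.Bijective
          (PCoh.hm i (DRing.toDerivedCompletion I ((DRing.RgammaI J').obj (Dual.inD A M)))) := by
  obtain ⟨ω₀, hω₀⟩ := hdc
  obtain ⟨a, b, E, hv, hE, ⟨e⟩⟩ := Ext.fid_iff.1 (show Ext.FID ω₀ from hω₀.finite_injective_dimension)
  haveI := Ext.isKInjective_of_vanishesOutside hv hE
  have hω : Dual.IsDualizing A (DRing.toD E) := Dualizing.isDualizing_of_iso e.symm hω₀
  haveI : DRing.HasRgammaI I := RG.hasRgammaI I
  haveI : DRing.HasRgammaI (J ⊔ I) := RG.hasRgammaI (J ⊔ I)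
  obtain ⟨L, hL, hc⟩ := good_inD (I := I) (𝔞 := J ⊔ I) hv hE hω hd M (s := s) fun p hpI hr q hpq hq => by
    obtain ⟨r, hr1, hr2, hr3⟩ := hr
    rcases h p hpI ⟨r, hr1, hr2, fun hJ => hr3 (sup_le hJ hr2)⟩ q hpq (le_sup_left.trans hq) (le_sup_right.trans hq) with
      h | h
    · exact Or.inl h
    · refine Or.inr ?_
      rw [H24Formal2.dimBetween_eq hpq, HT.krullDim_Icc hω hpq, ← WithBot.coe_add] at h
      exact WithBot.coe_lt_coe.1 h
  have hV₀ : PrimeSpectrum.zeroLocus ((L * J : Ideal A) : Set A) ∩ PrimeSpectrum.zeroLocus (I : Set A) =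
      PrimeSpectrum.zeroLocus (J : Set A) ∩ PrimeSpectrum.zeroLocus (I : Set A) := by
    refine Set.ext fun q => ⟨fun hq => ⟨?_, hq.2⟩, fun hq => ⟨fun x hx => hq.1 (Ideal.mul_le_right hx), hq.2⟩⟩
    rcases q.2.mul_le.1 (show L * J ≤ q.asIdeal from hq.1) with h1 | h1
    · exact le_sup_left.trans (hL q h1 hq.2)
    · exact h1
  refine ⟨L * J, Ideal.mul_le_right, hV₀, ?_⟩
  intro J' _ hle hV i hi
  haveI : DRing.HasRgammaI (J' ⊔ I) := RG.hasRgammaI (J' ⊔ I)
  refine bijective_hm_completion_of_torsion I J' M s (fun l hl x => ?_) i hi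
  obtain ⟨g1⟩ := (RG.nonempty_greenlees_may I ((DRing.RgammaI J').obj (Dual.inD A M))).2
  obtain ⟨g2⟩ := RG.nonempty_rgamma_comp J' I (Dual.inD A M)
  obtain ⟨g3⟩ := nonempty_rgamma_of_radical (J := J' ⊔ I) (K := J ⊔ I) (radical_sup_eq hV) (Dual.inD A M)
  let g := PCoh.hEquiv l ((ObjectProperty.ι _).mapIso (g1.symm ≪≫ (DRing.derivedCompletion I).mapIso (g2 ≪≫ g3)))
  obtain ⟨k, hk⟩ := hc l hl (g x)
  exact ⟨k, fun c hc' => g.injective (by
    rw [map_smul, map_zero]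
    exact hk c (Ideal.pow_right_mono (hle.trans Ideal.mul_le_left) k hc'))⟩

end Groth.Agent.H3CAlg.GlobAlg
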