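import Groth.Agent.H3CAlg.TorsionCompletion
import Groth.Agent.H4DR.RG.Comp
import Groth.Agent.H4DR.RG.GM

/-!
# `RΓ` and shifts, triangles
-/

set_option autoImplicit false
set_option linter.style.haveILetI false
set_option linter.unusedVariables false

universe u

open CategoryTheory CategoryTheory.Limits Pretriangulated
open Groth.Agent.H4DR

attribute [local instance] HasDerivedCategory.standard

namespace Groth.Agent.H3CAlg.GlobAlg

variable {A : Type u} [CommRing A] [IsNoetherianRing A] (I : Ideal A) [DRing.HasRgammaI I]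

omit [IsNoetherianRing A] [DRing.HasRgammaI I] in
theorem isTors_shift {L : Dual.D A} (h : RG.IsTors I L) (n : ℤ) : RG.IsTors I (L⟦n⟧) := fun i x => by
  obtain ⟨k, hk⟩ := h (n + i) (PCoh.hShift L n i (n + i) rfl x)
  exact ⟨k, fun a ha => (PCoh.hShift L n i (n + i) rfl).injective (by rw [map_smul, map_zero]; exact hk a ha)⟩

theorem bijective_postcomp_shift_ε {S : Dual.D A} (hS : RG.IsTors I S) (X : Dual.D A) (n : ℤ) :
    Function.Bijective (fun y : S ⟶ ((DRing.RgammaI I).obj X)⟦n⟧ => y ≫ ((DRing.RgammaIε I).app X)⟦n⟧') := by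
  let F := shiftFunctor (Dual.D A) n
  let e : (S⟦-n⟧)⟦n⟧ ≅ S := (shiftFunctorCompIsoId (Dual.D A) (-n) n (by omega)).app S
  have hb := RG.bijective_postcomp_ε (isTors_shift I hS (-n)) X
  refine ⟨fun a b hab => ?_, fun v => ?_⟩
  · obtain ⟨a', ha⟩ := F.map_surjective (e.hom ≫ a)
    obtain ⟨b', hb'⟩ := F.map_surjective (e.hom ≫ b)
    have : a' ≫ (DRing.RgammaIε I).app X = b' ≫ (DRing.RgammaIε I).app X := F.map_injective (by
      rw [Functor.map_comp, Functor.map_comp, ha, hb', Category.assoc, Category.assoc]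
      exact congrArg (e.hom ≫ ·) hab)
    rw [← cancel_epi e.hom, ← ha, ← hb', hb.1 this]
  · obtain ⟨v', hv⟩ := F.map_surjective (e.hom ≫ v)
    obtain ⟨w, hw⟩ := hb.2 v'
    replace hw : w ≫ (DRing.RgammaIε I).app X = v' := hw
    refine ⟨e.inv ≫ F.map w, ?_⟩
    show (e.inv ≫ F.map w) ≫ F.map _ = v
    rw [Category.assoc, ← Functor.map_comp, hw, hv, Iso.inv_hom_id_assoc]

/-- Objects with the universal property are isomorphic to `RΓ`. -/
theorem nonempty_iso_of_universal {C X : Dual.D A} (c : C ⟶ X) (hC : RG.IsTors I C)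
    (hc : ∀ S : Dual.D A, RG.IsTors I S → Function.Bijective (fun y : S ⟶ C => y ≫ c)) :
    Nonempty ((DRing.RgammaI I).obj X ≅ C) := by
  obtain ⟨a, ha⟩ := (hc _ (RG.isTors_rgamma (I := I) X)).2 ((DRing.RgammaIε I).app X)
  obtain ⟨b, hb⟩ := (RG.bijective_postcomp_ε hC X).2 c
  replace ha : a ≫ c = (DRing.RgammaIε I).app X := ha
  replace hb : b ≫ (DRing.RgammaIε I).app X = c := hb
  refine ⟨⟨a, b, (RG.bijective_postcomp_ε (RG.isTors_rgamma X) X).1 ?_, (hc C hC).1 ?_⟩⟩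
  · show (a ≫ b) ≫ _ = 𝟙 _ ≫ _
    rw [Category.assoc, hb, ha]
    exact (Category.id_comp _).symm
  · show (b ≫ a) ≫ _ = 𝟙 _ ≫ _
    rw [Category.assoc, ha, hb]
    exact (Category.id_comp _).symm

theorem nonempty_rgamma_shift (X : Dual.D A) (n : ℤ) :
    Nonempty ((DRing.RgammaI I).obj (X⟦n⟧) ≅ ((DRing.RgammaI I).obj X)⟦n⟧) :=
  nonempty_iso_of_universal I (((DRing.RgammaIε I).app X)⟦n⟧') (isTors_shift I (RG.isTors_rgamma X) n)
    fun S hS => bijective_postcomp_shift_ε I hS X n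

/-- `RΓ` of a distinguished triangle. -/
theorem exists_rgamma_triangle (T : Triangle (Dual.D A)) (hT : T ∈ distTriang (Dual.D A)) :
    ∃ T' ∈ distTriang (Dual.D A), Nonempty (T'.obj₁ ≅ (DRing.RgammaI I).obj T.obj₁) ∧
      Nonempty (T'.obj₂ ≅ (DRing.RgammaI I).obj T.obj₂) ∧ Nonempty (T'.obj₃ ≅ (DRing.RgammaI I).obj T.obj₃) := by
  let R := DRing.RgammaI I
  let ε : ∀ X : Dual.D A, R.obj X ⟶ X := fun X => (DRing.RgammaIε I).app X
  obtain ⟨C, p, q, hC⟩ := distinguished_cocone_triangle (R.map T.mor₁)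
  have hsq : R.map T.mor₁ ≫ ε T.obj₂ = ε T.obj₁ ≫ T.mor₁ := (DRing.RgammaIε I).naturality T.mor₁
  obtain ⟨c, hc2, hc3⟩ : ∃ c : C ⟶ T.obj₃, p ≫ c = ε T.obj₂ ≫ T.mor₂ ∧ q ≫ (ε T.obj₁)⟦(1 : ℤ)⟧' = c ≫ T.mor₃ :=
    complete_distinguished_triangle_morphism (Triangle.mk (R.map T.mor₁) p q) T hC hT (ε T.obj₁) (ε T.obj₂) hsq
  have hCt : RG.IsTors I C := fun i => isPowerTorsion_mid I (PCoh.ex₂ _ (rot_of_distTriang _ hC) i)
    (RG.isTors_rgamma (I := I) T.obj₂ i) (isTors_shift I (RG.isTors_rgamma T.obj₁) 1 i)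
  have hpq : p ≫ q = 0 := comp_distTriang_mor_zero₂₃ _ hC
  have hqf : q ≫ (R.map T.mor₁)⟦(1 : ℤ)⟧' = 0 := comp_distTriang_mor_zero₃₁ _ hC
  have hf2 : R.map T.mor₁ ≫ p = 0 := comp_distTriang_mor_zero₁₂ _ hC
  have huniv : ∀ S : Dual.D A, RG.IsTors I S → Function.Bijective (fun y : S ⟶ C => y ≫ c) := by
    intro S hS
    have hb1 : Function.Bijective (fun y : S ⟶ (R.obj T.obj₁)⟦(1 : ℤ)⟧ => y ≫ (ε T.obj₁)⟦(1 : ℤ)⟧') :=
      bijective_postcomp_shift_ε I hS T.obj₁ 1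
    have hb1' : Function.Bijective (fun y : S ⟶ R.obj T.obj₁ => y ≫ ε T.obj₁) := RG.bijective_postcomp_ε hS T.obj₁
    have hb2 : Function.Bijective (fun y : S ⟶ R.obj T.obj₂ => y ≫ ε T.obj₂) := RG.bijective_postcomp_ε hS T.obj₂
    refine ⟨fun y y' hyy => sub_eq_zero.1 ?_, fun x => ?_⟩
    · have h0 : (y - y') ≫ c = 0 := by
        rw [Preadditive.sub_comp, sub_eq_zero]; exact hyy
      generalize y - y' = z at h0
      have hzq : z ≫ q = 0 := hb1.1 (by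
        show (z ≫ q) ≫ (ε T.obj₁)⟦(1 : ℤ)⟧' = 0 ≫ _
        rw [Category.assoc, hc3, ← Category.assoc, h0, zero_comp]
        exact zero_comp.symm)
      obtain ⟨w, hw⟩ : ∃ w : S ⟶ R.obj T.obj₂, z = w ≫ p := Triangle.coyoneda_exact₃ _ hC z hzq
      obtain ⟨v, hv⟩ : ∃ v : S ⟶ T.obj₁, w ≫ ε T.obj₂ = v ≫ T.mor₁ := Triangle.coyoneda_exact₂ _ hT (w ≫ ε T.obj₂) (by
        rw [Category.assoc, ← hc2, ← Category.assoc, ← hw, h0])
      obtain ⟨v', rfl⟩ := hb1'.2 v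
      have hwv : w = v' ≫ R.map T.mor₁ := hb2.1 (by
        show w ≫ ε T.obj₂ = (v' ≫ R.map T.mor₁) ≫ ε T.obj₂
        rw [hv]
        exact ((Category.assoc _ _ _).trans (congrArg (v' ≫ ·) hsq.symm)).trans (Category.assoc _ _ _).symm)
      rw [hw, hwv, Category.assoc, hf2, comp_zero]
    · obtain ⟨v, hv⟩ := hb1.2 (x ≫ T.mor₃)
      replace hv : v ≫ (ε T.obj₁)⟦(1 : ℤ)⟧' = x ≫ T.mor₃ := hv
      have hvf : v ≫ (R.map T.mor₁)⟦(1 : ℤ)⟧' = 0 := (bijective_postcomp_shift_ε I hS T.obj₂ 1).1 (by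
        show (v ≫ (R.map T.mor₁)⟦(1 : ℤ)⟧') ≫ (ε T.obj₂)⟦(1 : ℤ)⟧' = 0 ≫ _
        rw [Category.assoc, ← Functor.map_comp, hsq, Functor.map_comp, ← Category.assoc, hv, Category.assoc]
        exact ((congrArg (x ≫ ·) (comp_distTriang_mor_zero₃₁ _ hT)).trans comp_zero).trans zero_comp.symm)
      obtain ⟨y, hy⟩ : ∃ y : S ⟶ C, v = y ≫ q := Triangle.coyoneda_exact₁ (Triangle.mk (R.map T.mor₁) p q) hC v hvf
      obtain ⟨w, hw⟩ : ∃ w : S ⟶ T.obj₂, y ≫ c - x = w ≫ T.mor₂ := Triangle.coyoneda_exact₃ _ hT (y ≫ c - x) (by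
        rw [Preadditive.sub_comp, Category.assoc, ← hc3, ← Category.assoc, ← hy, hv, sub_self])
      obtain ⟨w', rfl⟩ := hb2.2 w
      refine ⟨y - w' ≫ p, ?_⟩
      show (y - w' ≫ p) ≫ c = x
      rw [Preadditive.sub_comp, Category.assoc, hc2, ← Category.assoc, sub_eq_iff_eq_add]
      exact sub_eq_iff_eq_add'.1 hw
  obtain ⟨e⟩ := nonempty_iso_of_universal I c hCt huniv
  exact ⟨Triangle.mk (R.map T.mor₁) p q, hC, ⟨Iso.refl _⟩, ⟨Iso.refl _⟩, ⟨e.symm⟩⟩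

end Groth.Agent.H3CAlg.GlobAlg
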