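import Mathlib.Algebra.BigOperators.Intervals
import Mathlib.Algebra.Order.BigOperators.Group.Finset
import Mathlib.Algebra.Group.Subgroup.Ker
import Mathlib.Algebra.Group.Subgroup.Finite
import Mathlib.Tactic.Abel

/-!
# `1 - shift` is surjective on a Mittag-Leffler tower
-/

set_option autoImplicit false

universe u

namespace Groth.Agent.H3CAlg.GlobAlg

variable {K : ℕ → Type u} [∀ n, AddCommGroup (K n)]

theorem exists_telescope_ml (T : ∀ {n m : ℕ}, n ≤ m → (K m →+ K n))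
    (hid : ∀ (n : ℕ) (x : K n), T (le_refl n) x = x)
    (hcomp : ∀ {a b c : ℕ} (h : a ≤ b) (h' : b ≤ c) (x : K c), T h (T h' x) = T (h.trans h') x)
    (hml : ∀ n, ∃ (l : ℕ) (hl : n ≤ l), ∀ (k : ℕ) (hk : l ≤ k), Set.range (T (hl.trans hk)) = Set.range (T hl))
    (d : ∀ n, K n) : ∃ k : ∀ n, K n, ∀ n, k n - T n.le_succ (k (n + 1)) = d n := by
  classical
  choose l hl hml using hml
  let c : ℕ → ℕ := fun n => max n ((Finset.range (n + 1)).sup l)
  have hc1 : ∀ n, n ≤ c n := fun n => le_max_left _ _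
  have hc2 : ∀ n, l n ≤ c n := fun n =>
    (Finset.le_sup (f := l) (Finset.mem_range.2 n.lt_succ_self)).trans (le_max_right _ _)
  have hc3 : ∀ n, c n ≤ c (n + 1) := fun n =>
    max_le_max n.le_succ (Finset.sup_mono (by intro a ha; simp only [Finset.mem_range] at ha ⊢; omega))
  let T' : ∀ n j : ℕ, K j →+ K n := fun n j => if h : n ≤ j then T h else 0
  have hT' : ∀ {n j : ℕ} (h : n ≤ j), T' n j = T h := fun {n j} h => dif_pos h
  let S : ∀ n m : ℕ, K n := fun n m => ∑ j ∈ Finset.Ico n m, T' n j (d j)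
  let F : ∀ n, AddSubgroup (K n) := fun n => (T (hc1 n)).range
  have hsurj : ∀ n, ∀ x ∈ F n, ∃ y ∈ F (n + 1), T n.le_succ y = x := by
    rintro n _ ⟨z, rfl⟩
    have h1 : T (hc1 n) z ∈ Set.range (T (hl n)) := by
      refine ⟨T (hc2 n) z, ?_⟩
      rw [hcomp]
    rw [← hml n (c (n + 1)) ((hc2 n).trans (hc3 n))] at h1
    obtain ⟨w, hw⟩ := h1
    exact ⟨T (hc1 (n + 1)) w, ⟨w, rfl⟩, by rw [hcomp, hw]⟩
  have hrec : ∀ n, S n (c (n + 1)) = d n + T n.le_succ (S (n + 1) (c (n + 1))) := fun n => by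
    show ∑ j ∈ Finset.Ico n (c (n + 1)), T' n j (d j) = _
    rw [Finset.sum_eq_sum_Ico_succ_bot (show n < c (n + 1) from n.lt_succ_self.trans_le (hc1 (n + 1))), map_sum,
      hT' le_rfl, hid]
    refine congrArg (d n + ·) (Finset.sum_congr rfl fun j hj => ?_)
    have hj' := (Finset.mem_Ico.1 hj).1
    rw [hT' hj', hT' (n.le_succ.trans hj'), hcomp]
  have hmem : ∀ n, S n (c (n + 1)) - S n (c n) ∈ F n := fun n => by
    show ∑ j ∈ Finset.Ico n (c (n + 1)), T' n j (d j) - ∑ j ∈ Finset.Ico n (c n), T' n j (d j) ∈ F n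
    rw [← Finset.sum_Ico_consecutive _ (hc1 n) (hc3 n), add_sub_cancel_left]
    refine AddSubgroup.sum_mem _ fun j hj => ?_
    have hj' := (Finset.mem_Ico.1 hj).1
    exact ⟨T hj' (d j), by rw [hcomp, hT' ((hc1 n).trans hj')]⟩
  choose g hg1 hg2 using fun n (x : F n) => hsurj n (x.1 - (S n (c (n + 1)) - S n (c n))) (sub_mem x.2 (hmem n))
  let e : ∀ n, F n := fun n => Nat.rec (motive := fun n => F n) 0 (fun n x => ⟨g n x, hg1 n x⟩) n
  have he : ∀ n, T n.le_succ (e (n + 1) : K (n + 1)) = (e n : K n) - (S n (c (n + 1)) - S n (c n)) := fun n => hg2 n (e n)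
  refine ⟨fun n => S n (c n) + (e n : K n), fun n => ?_⟩
  have key : ∀ (G : Type u) [AddCommGroup G] (a b t d : G), a + b - (t + (b - (d + t - a))) = d := by
    intro G _ a b t d
    abel
  rw [map_add, he, hrec]
  exact key (K n) _ _ _ _

end Groth.Agent.H3CAlg.GlobAlg
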